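import Cfsg.Agent.Lib.Block.SmallPSL.Count
import Cfsg.Agent.Lib.Block.SmallIndex
import Cfsg.Agent.Lib.Block.Zas.SharpEven
import Cfsg.Agent.Lib.Block.Zas.FieldCongr

/-!
# Recognition of `PSL(2, 2^f)` by involution centralizers

A simple group of order `(q+1) q (q-1)`, `q = 2^f`, in which the centralizer of every involution has
order dividing `q` and at most `q^2` elements have order dividing `q`, is `PSL(2, q)`.
-/

set_option autoImplicit false

namespace Cfsg.Agent.Block.SmallPSL

open MulAction Zas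

universe u

/-- In characteristic two `PGL(2)` is `PSL(2)`, also over another field of the same finite order. -/
theorem pgl_iso_psl {K : Type} [Field K] [Fintype K] {F : Type*} [Field F] [Fintype F] {f : ℕ}
    (hf : 1 ≤ f) (hK : Fintype.card K = 2 ^ f) (hF : Fintype.card F = 2 ^ f) :
    Nonempty (Matrix.ProjGenLinGroup (Fin 2) K ≃* Matrix.ProjectiveSpecialLinearGroup (Fin 2) F) := by
  classical
  haveI : Fact (Nat.Prime 2) := ⟨Nat.prime_two⟩
  have hchar : ringChar K = 2 := by
    obtain ⟨n, hp, hn⟩ := FiniteField.card K (ringChar K)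
    rw [hn] at hK
    have h2 : ringChar K ∣ 2 ^ f := hK ▸ dvd_pow_self _ n.pos.ne'
    exact (Nat.prime_dvd_prime_iff_eq hp Nat.prime_two).mp (hp.dvd_of_dvd_pow h2)
  have hroots : ∀ r : Kˣ, ∃ k : Kˣ, k ^ Fintype.card (Fin 2) = r := by
    intro r
    obtain ⟨k, hk⟩ := FiniteField.isSquare_of_char_two hchar (r : K)
    have hk0 : k ≠ 0 := fun e => r.ne_zero (by rw [hk, e, mul_zero])
    exact ⟨Units.mk0 k hk0, Units.ext (by rw [Fintype.card_fin, sq]; exact hk.symm)⟩
  let e1 : Matrix.ProjGenLinGroup (Fin 2) K ≃* Matrix.ProjectiveSpecialLinearGroup (Fin 2) K :=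
    (MulEquiv.ofBijective Matrix.ProjectiveSpecialLinearGroup.toPGL
      ⟨Matrix.ProjectiveSpecialLinearGroup.toPGL_injective,
        Matrix.ProjectiveSpecialLinearGroup.toPGL_surj_of_roots hroots⟩).symm
  let e : K ≃+* F := FiniteField.ringEquivOfCardEq (hK.trans hF.symm)
  obtain ⟨e2⟩ := nonempty_quotient_center_congr (MonoidHom.toMulEquiv
    (Matrix.SpecialLinearGroup.map (n := Fin 2) (e : K →+* F))
    (Matrix.SpecialLinearGroup.map (n := Fin 2) (e.symm : F →+* K))
    (MonoidHom.ext fun g => by ext i j; exact e.symm_apply_apply _)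
    (MonoidHom.ext fun g => by ext i j; exact e.apply_symm_apply _))
  exact ⟨e1.trans e2⟩

variable {G : Type u} [Group G] [Finite G] [IsSimpleGroup G]

set_option maxHeartbeats 800000 in
theorem iso_psl_of_involution_centralizer {f : ℕ} (hf : 2 ≤ f)
    (hcard : Nat.card G = (2 ^ f + 1) * 2 ^ f * (2 ^ f - 1))
    (hX : Nat.card {g : G // g ^ (2 ^ f) = 1} ≤ (2 ^ f) ^ 2)
    (hC : ∀ t : G, t ≠ 1 → t * t = 1 → Nat.card (Subgroup.centralizer ({t} : Set G)) ∣ 2 ^ f)
    {F : Type*} [Field F] [Fintype F] (hF : Fintype.card F = 2 ^ f) :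
    Nonempty (G ≃* Matrix.ProjectiveSpecialLinearGroup (Fin 2) F) := by
  classical
  haveI := Fintype.ofFinite G
  haveI : Fact (Nat.Prime 2) := ⟨Nat.prime_two⟩
  set q := 2 ^ f with hqdef
  have hq4 : 4 ≤ q := le_trans (by norm_num) (Nat.pow_le_pow_right (by norm_num : 0 < 2) hf)
  have hqe : 2 ∣ q := dvd_pow_self 2 (by omega)
  obtain ⟨t, ht⟩ := exists_prime_orderOf_dvd_card' (G := G) 2 (by
    rw [hcard]; exact Dvd.dvd.mul_right (Dvd.dvd.mul_left hqe _) _)
  have ht1 : t ≠ 1 := fun e => by rw [e, orderOf_one] at ht; omega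
  have ht2 : t * t = 1 := by rw [← sq, ← ht, pow_orderOf_eq_one]
  -- all elements of order dividing `q` are conjugate to `t`
  set X : Finset G := Finset.univ.filter fun g => g ^ q = 1 ∧ g ≠ 1 with hXdef
  set K : Finset G := Finset.univ.filter fun g => IsConj t g with hKdef
  have hXc : X.card + 1 ≤ q ^ 2 := by
    refine le_trans (le_of_eq ?_) hX
    rw [Nat.card_eq_fintype_card, Fintype.card_subtype,
      ← Finset.card_erase_add_one (a := (1 : G)) (s := Finset.univ.filter fun g => g ^ q = 1)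
        (Finset.mem_filter.mpr ⟨Finset.mem_univ _, one_pow q⟩)]
    congr 2
    ext g
    simp [hXdef, and_comm]
  have hKX : K ⊆ X := by
    intro g hg
    obtain ⟨c, rfl⟩ := isConj_iff.mp (Finset.mem_filter.mp hg).2
    refine Finset.mem_filter.mpr ⟨Finset.mem_univ _, ?_, fun e => ht1 (conj_eq_one_iff.mp e)⟩
    obtain ⟨r, hr⟩ := hqe
    rw [conj_pow, hr, pow_mul, sq, ht2, one_pow, mul_one, mul_inv_cancel]
  have hKc : K.card * Nat.card (Subgroup.centralizer ({t} : Set G)) = Nat.card G := by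
    have h1 := Subgroup.card_mul_index (MulAction.stabilizer (ConjAct G) t)
    rw [MulAction.index_stabilizer, ConjAct.stabilizer_eq_centralizer] at h1
    refine Eq.trans ?_ (h1.trans (Nat.card_congr ConjAct.ofConjAct.toEquiv))
    rw [mul_comm]
    congr 1
    rw [Set.ncard_eq_toFinset_card']
    congr 1
    ext g
    rw [hKdef, Set.mem_toFinset, ConjAct.mem_orbit_conjAct]
    simp only [Finset.mem_filter, Finset.mem_univ, true_and]
    exact isConj_comm
  have hCt : Nat.card (Subgroup.centralizer ({t} : Set G)) = q ∧ X = K := by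
    have hdvd := hC t ht1 ht2
    have hle := Nat.le_of_dvd (by omega) hdvd
    have h1 := Finset.card_le_card hKX
    rw [hcard] at hKc
    have hq2 : (q + 1) * (q - 1) + 1 = q ^ 2 := by
      obtain ⟨r, hr⟩ := Nat.exists_eq_add_of_le (show 1 ≤ q by omega)
      rw [hr, Nat.add_sub_cancel_left]; ring
    have h3 : K.card ≤ (q + 1) * (q - 1) := by omega
    have h4 : (q + 1) * (q - 1) * q ≤ K.card * q := by
      calc (q + 1) * (q - 1) * q = K.card * Nat.card (Subgroup.centralizer ({t} : Set G)) := by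
            rw [hKc]; ring
        _ ≤ K.card * q := Nat.mul_le_mul_left _ hle
    have h5 : K.card = (q + 1) * (q - 1) := le_antisymm h3 (Nat.le_of_mul_le_mul_right h4 (by omega))
    refine ⟨?_, (Finset.eq_of_subset_of_card_le hKX (by omega)).symm⟩
    rw [h5, show (q + 1) * q * (q - 1) = (q + 1) * (q - 1) * q by ring] at hKc
    exact Nat.eq_of_mul_eq_mul_left (Nat.mul_pos (by omega) (by omega)) hKc
  have hconj : ∀ x : G, x ^ q = 1 → x ≠ 1 → ∃ c : G, c * t * c⁻¹ = x := by
    intro x hx hx1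
    have : x ∈ X := Finset.mem_filter.mpr ⟨Finset.mem_univ _, hx, hx1⟩
    rw [hCt.2] at this
    exact isConj_iff.mp (Finset.mem_filter.mp this).2
  obtain ⟨P⟩ : Nonempty (Sylow 2 G) := inferInstance
  have hPc : ∀ Q : Sylow 2 G, Nat.card (Q : Subgroup G) = q := by
    intro Q
    rw [Q.card_eq_multiplicity, hcard]
    have e1 : ¬ 2 ∣ q + 1 := by omega
    have e2 : ¬ 2 ∣ q - 1 := by omega
    rw [Nat.factorization_mul (Nat.mul_ne_zero (by omega) (by omega)) (by omega),
      Nat.factorization_mul (by omega) (by omega), Finsupp.add_apply, Finsupp.add_apply,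
      Nat.factorization_eq_zero_of_not_dvd e1, Nat.factorization_eq_zero_of_not_dvd e2,
      hqdef, Nat.prime_two.factorization_pow, Finsupp.single_eq_same]
    simp
  have hpow : ∀ (Q : Sylow 2 G) (x : G), x ∈ (Q : Subgroup G) → x ^ q = 1 := by
    intro Q x hx
    rw [← hPc Q]
    exact orderOf_dvd_iff_pow_eq_one.mp (Subgroup.orderOf_dvd_natCard _ hx)
  have hcent : ∀ (Q : Sylow 2 G) (x : G), x ∈ (Q : Subgroup G) → x ≠ 1 →
      Subgroup.centralizer ({x} : Set G) = (Q : Subgroup G) := by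
    intro Q x hx hx1
    have hinv : ∀ y ∈ (Q : Subgroup G), y * y = 1 := by
      intro y hy
      rcases eq_or_ne y 1 with rfl | hy1
      · exact one_mul 1
      obtain ⟨c, rfl⟩ := hconj y (hpow Q y hy) hy1
      calc c * t * c⁻¹ * (c * t * c⁻¹) = c * (t * t) * c⁻¹ := by group
        _ = 1 := by rw [ht2, mul_one, mul_inv_cancel]
    have hle : (Q : Subgroup G) ≤ Subgroup.centralizer ({x} : Set G) := by
      intro y hy
      rw [Subgroup.mem_centralizer_singleton_iff]
      have h := inv_eq_of_mul_eq_one_right (hinv _ (mul_mem hy hx))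
      rw [← h, mul_inv_rev, inv_eq_of_mul_eq_one_right (hinv x hx),
        inv_eq_of_mul_eq_one_right (hinv y hy)]
    refine (Subgroup.eq_of_le_of_card_ge hle ?_).symm
    rw [hPc Q]
    exact Nat.le_of_dvd (by omega) (hC x hx1 (hinv x hx))
  have hnorm : ∀ (Q : Sylow 2 G) (x : G), x ^ q = 1 → x • Q = Q → x ∈ (Q : Subgroup G) := by
    intro Q x hx h
    rw [Sylow.smul_eq_iff_mem_normalizer] at h
    have hz : IsPGroup 2 (Subgroup.zpowers x) := fun y => by
      obtain ⟨i, hi⟩ := y.2
      refine ⟨f, Subtype.ext ?_⟩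
      show (y : G) ^ 2 ^ f = 1
      rw [← hi, ← hqdef]
      show (x ^ i) ^ q = 1
      rw [← zpow_natCast, ← zpow_mul, mul_comm, zpow_mul, zpow_natCast, hx, one_zpow]
    have hm : x ∈ Subgroup.zpowers x ⊓ Subgroup.normalizer (Q : Set G) :=
      ⟨Subgroup.mem_zpowers x, h⟩
    rw [hz.inf_normalizer_sylow Q] at hm
    exact hm.2
  obtain ⟨x0, hx0⟩ : ∃ x0 : (P : Subgroup G), x0 ≠ 1 := by
    haveI : Nontrivial (P : Subgroup G) := Finite.one_lt_card_iff_nontrivial.mp (by rw [hPc]; omega)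
    exact exists_ne 1
  have hn : Nat.card (Sylow 2 G) = q + 1 := by
    rw [Sylow.card_eq_index_normalizer P]
    have h := card_conj_union (P : Subgroup G) (hcent P)
    rw [hPc P] at h
    have hU : Nat.card {g : G // g ≠ 1 ∧ ∃ c : G, c * g * c⁻¹ ∈ (P : Subgroup G)} = (q + 1) * (q - 1) := by
      have hK5 : K.card = (q + 1) * (q - 1) := by
        rw [hcard, hCt.1, show (q + 1) * q * (q - 1) = (q + 1) * (q - 1) * q by ring] at hKc
        exact Nat.eq_of_mul_eq_mul_right (by omega) hKc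
      rw [← hK5, ← hCt.2, Nat.card_eq_fintype_card, Fintype.card_subtype]
      congr 1
      ext g
      simp only [hXdef, Finset.mem_filter, Finset.mem_univ, true_and]
      constructor
      · rintro ⟨hg, c, hc⟩
        refine ⟨?_, hg⟩
        have := hpow P _ hc
        rwa [conj_pow, conj_eq_one_iff] at this
      · rintro ⟨hg, hg1⟩
        refine ⟨hg1, ?_⟩
        obtain ⟨c, hc⟩ := hconj g hg hg1
        obtain ⟨d, hd⟩ := hconj x0 (hpow P _ x0.2) (fun e => hx0 (Subtype.ext e))
        refine ⟨d * c⁻¹, ?_⟩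
        rw [← hc, show d * c⁻¹ * (c * t * c⁻¹) * (d * c⁻¹)⁻¹ = d * t * d⁻¹ by group, hd]
        exact x0.2
    rw [hU] at h
    exact (Nat.eq_of_mul_eq_mul_right (by omega) h).symm
  haveI := Fintype.ofFinite (Sylow 2 G)
  -- regularity of a Sylow subgroup on the others
  have hfree : ∀ u ∈ (P : Subgroup G), ∀ Q : Sylow 2 G, Q ≠ P → u • Q = Q → u = 1 := by
    intro u hu Q hQ h
    by_contra hu1
    exact hQ (Sylow.ext ((hcent Q u (hnorm Q u (hpow P u hu) h) hu1).symm.trans (hcent P u hu hu1)))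
  have hPfix : ∀ u ∈ (P : Subgroup G), u • P = P := fun u hu => by
    rw [Sylow.smul_eq_iff_mem_normalizer]; exact Subgroup.le_normalizer hu
  have hreg : ∀ Q R : Sylow 2 G, Q ≠ P → R ≠ P → ∃! u : (P : Subgroup G), (u : G) • Q = R := by
    intro Q R hQ hR
    have hne : ∀ u : (P : Subgroup G), (u : G) • Q ≠ P := fun u e =>
      hQ (smul_left_cancel (u : G) (e.trans (hPfix u u.2).symm))
    let φ : ↥(P : Subgroup G) → {S : Sylow 2 G // S ≠ P} := fun u => ⟨(u : G) • Q, hne u⟩
    have hinj : Function.Injective φ := by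
      intro u v e
      have e' : (u : G) • Q = (v : G) • Q := congrArg Subtype.val e
      refine (inv_mul_eq_one.mp (Subtype.ext (hfree _ ((v⁻¹ * u : (P : Subgroup G))).2 Q hQ ?_))).symm
      simp only [Subgroup.coe_mul, Subgroup.coe_inv, mul_smul, e', inv_smul_smul]
    have hc : Nat.card {S : Sylow 2 G // S ≠ P} = q := by
      have h1 := Nat.card_congr (Equiv.optionSubtypeNe P)
      rw [Finite.card_option, hn] at h1
      omega
    obtain ⟨u, hu⟩ := ((Nat.bijective_iff_injective_and_card φ).mpr ⟨hinj, (hPc P).trans hc.symm⟩).2 ⟨R, hR⟩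
    exact ⟨u, congrArg Subtype.val hu, fun v hv => hinj (Subtype.ext (hv.trans (congrArg Subtype.val hu).symm))⟩
  obtain ⟨b, hb⟩ : ∃ b : Sylow 2 G, b ≠ P := by
    haveI : Nontrivial (Sylow 2 G) := Finite.one_lt_card_iff_nontrivial.mp (by rw [hn]; omega)
    exact exists_ne P
  have htwo : ∀ {x y z w : Sylow 2 G}, x ≠ y → z ≠ w → ∃ g : G, g • x = z ∧ g • y = w := by
    have key : ∀ x y : Sylow 2 G, x ≠ y → ∃ g : G, g • P = x ∧ g • b = y := by
      intro x y hxy
      obtain ⟨g, hg⟩ := MulAction.exists_smul_eq G P x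
      have hy : g⁻¹ • y ≠ P := fun e => hxy (by rw [← hg, ← inv_smul_eq_iff.mp e])
      obtain ⟨u, hu, -⟩ := hreg b (g⁻¹ • y) hb hy
      exact ⟨g * u, by rw [mul_smul, hPfix u u.2, hg], by rw [mul_smul, hu, smul_inv_smul]⟩
    intro x y z w hxy hzw
    obtain ⟨g, hg1, hg2⟩ := key x y hxy
    obtain ⟨k, hk1, hk2⟩ := key z w hzw
    exact ⟨k * g⁻¹, by rw [mul_smul, inv_smul_eq_iff.2 hg1.symm, hk1],
      by rw [mul_smul, inv_smul_eq_iff.2 hg2.symm, hk2]⟩
  have hconjP : ∀ g : G, g • P = P → ∀ u ∈ (P : Subgroup G), g * u * g⁻¹ ∈ (P : Subgroup G) := by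
    intro g hg u hu
    rw [Sylow.smul_eq_iff_mem_normalizer] at hg
    exact (Subgroup.mem_normalizer_iff.mp hg u).mp hu
  let D : Frame G (Sylow 2 G) :=
    { a := P
      b := b
      F := (P : Subgroup G)
      hab := hb.symm
      free3 := fun g x y z hxy hyz hxz hx hy hz => by
        obtain ⟨k, hka, hkb⟩ := htwo hb.symm hxy
        have e : ∀ {w w' : Sylow 2 G}, k • w = w' → g • w' = w' → (k⁻¹ * g * k) • w = w := by
          intro w w' h1 h2
          rw [mul_smul, mul_smul, h1, h2, inv_smul_eq_iff, h1]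
        set g' := k⁻¹ * g * k
        have hc : k⁻¹ • z ≠ P := fun e' => hxz (by rw [← hka, ← inv_smul_eq_iff.mp e'])
        obtain ⟨u, hu, -⟩ := hreg b (k⁻¹ • z) hb hc
        have gP : g' • P = P := e hka hx
        have gb : g' • b = b := e hkb hy
        have gc : g' • (k⁻¹ • z) = k⁻¹ • z := e (smul_inv_smul k z) hz
        have hu' : (g' * u * g'⁻¹) • b = k⁻¹ • z := by
          rw [mul_smul, mul_smul, inv_smul_eq_iff.2 gb.symm, hu, gc]
        have heq := (hreg b (k⁻¹ • z) hb hc).unique (y₁ := ⟨_, hconjP g' gP u u.2⟩) (y₂ := u) hu' hu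
        have hu1 : (u : G) ≠ 1 := fun h => hyz (by
          rw [h, one_smul] at hu
          rw [← hkb, hu, smul_inv_smul])
        have hmem : g' ∈ Subgroup.centralizer ({(u : G)} : Set G) := by
          rw [Subgroup.mem_centralizer_singleton_iff]
          exact mul_inv_eq_iff_eq_mul.mp (congrArg Subtype.val heq)
        rw [hcent P u u.2 hu1] at hmem
        have h1 := hfree g' hmem b hb gb
        calc g = k * g' * k⁻¹ := by simp only [g']; group
          _ = 1 := by rw [h1, mul_one, mul_inv_cancel]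
      two := htwo
      F_fix := hPfix
      F_conj := hconjP
      F_reg := hreg }
  have hDF : Nat.card D.F = q := hPc P
  have hd : Nat.card D.H = Nat.card D.F - 1 := by
    have h := D.card_group
    rw [hDF, hcard] at h
    rw [hDF]
    refine Nat.eq_of_mul_eq_mul_left (show 0 < (q + 1) * q by positivity) ?_
    rw [mul_assoc (q + 1) q (Nat.card D.H), ← h]
  obtain ⟨h3, hsharp⟩ := D.sharp_of_card hd
  let φ : G →* Equiv.Perm (Sylow 2 G) := MulAction.toPermHom G (Sylow 2 G)
  have hφ : Function.Injective φ := by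
    rw [← MonoidHom.ker_eq_bot_iff]
    refine (IsSimpleGroup.eq_bot_or_eq_top_of_normal _ inferInstance).resolve_right fun e => ?_
    obtain ⟨g, hg, -⟩ := htwo hb.symm hb
    exact hb (hg.symm.trans (congrArg (fun σ : Equiv.Perm (Sylow 2 G) => σ P)
      (MonoidHom.mem_ker.mp (e.ge (Subgroup.mem_top g)))))
  have h3' : IsMultiplyPretransitive φ.range (Sylow 2 G) 3 := by
    haveI := h3
    rw [isMultiplyPretransitive_iff]
    intro x y
    obtain ⟨g, hg⟩ := exists_smul_eq G x y
    exact ⟨⟨φ g, g, rfl⟩, Function.Embedding.ext fun i => congrArg (fun s : Fin 3 ↪ Sylow 2 G => s i) hg⟩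
  have hsharp' : ∀ x : Fin 3 ↪ Sylow 2 G, stabilizer φ.range x = ⊥ := by
    intro x
    rw [Subgroup.eq_bot_iff_forall]
    rintro ⟨_, g, rfl⟩ hg
    have hmem : g ∈ stabilizer G x := by
      rw [mem_stabilizer_iff] at hg ⊢
      exact Function.Embedding.ext fun i => congrArg (fun s : Fin 3 ↪ Sylow 2 G => s i) hg
    rw [hsharp, Subgroup.mem_bot] at hmem
    refine Subtype.ext ?_
    show φ g = 1
    rw [hmem, map_one]
  obtain ⟨L, i1, i2, hL, ⟨iso⟩⟩ := sharp_two_pow (f := f) (by omega)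
    (by rw [← Nat.card_eq_fintype_card, hn]) φ.range h3' hsharp'
  obtain ⟨iso'⟩ := pgl_iso_psl (K := L) (F := F) (by omega) hL hF
  exact ⟨(MonoidHom.ofInjective hφ).trans (iso.trans iso')⟩

end Cfsg.Agent.Block.SmallPSL
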