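import Mathlib

/-!
# Counting by self-centralizing abelian subgroups
-/

set_option autoImplicit false

namespace Cfsg.Agent.Block.SmallPSL

variable {G : Type*} [Group G] [Finite G]

/-- The non-trivial elements conjugate into a subgroup `A` all of whose non-trivial elements have
centralizer `A`: there are `[G : N(A)] * (|A| - 1)` of them. -/
theorem card_conj_union (A : Subgroup G)
    (hC : ∀ a ∈ A, a ≠ 1 → Subgroup.centralizer ({a} : Set G) = A) :
    Nat.card {g : G // g ≠ 1 ∧ ∃ c : G, c * g * c⁻¹ ∈ A} =
      (Subgroup.normalizer (A : Set G)).index * (Nat.card A - 1) := by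
  classical
  haveI := Fintype.ofFinite G
  set N := Subgroup.normalizer (A : Set G)
  set U : Finset G := Finset.univ.filter fun g => g ≠ 1 ∧ ∃ c : G, c * g * c⁻¹ ∈ A
  set S : Finset (G × G) := Finset.univ ×ˢ (Finset.univ.filter fun a => a ∈ A ∧ a ≠ 1)
  have hU : Nat.card {g : G // g ≠ 1 ∧ ∃ c : G, c * g * c⁻¹ ∈ A} = U.card := by
    rw [Nat.card_eq_fintype_card, Fintype.card_subtype]
  have hS : S.card = Nat.card G * (Nat.card A - 1) := by
    rw [Finset.card_product, Finset.card_univ, Nat.card_eq_fintype_card]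
    congr 1
    rw [show (Finset.univ.filter fun a => a ∈ A ∧ a ≠ 1) =
      (Finset.univ.filter fun a => a ∈ A).erase 1 by ext; simp [and_comm],
      Finset.card_erase_of_mem (Finset.mem_filter.mpr ⟨Finset.mem_univ _, A.one_mem⟩),
      Nat.card_eq_fintype_card (α := A), Fintype.card_subtype]
  have hmaps : ∀ p ∈ S, p.1⁻¹ * p.2 * p.1 ∈ U := by
    rintro ⟨c, a⟩ hp
    simp only [S, Finset.mem_product, Finset.mem_univ, Finset.mem_filter, true_and] at hp
    simp only [U, Finset.mem_filter, Finset.mem_univ, true_and]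
    exact ⟨fun e => hp.2 (by
      calc a = c * (c⁻¹ * a * c) * c⁻¹ := by group
        _ = 1 := by rw [e]; group), c, by simpa [mul_assoc] using hp.1⟩
  have hfib : ∀ u ∈ U, (S.filter fun p => p.1⁻¹ * p.2 * p.1 = u).card = Nat.card N := by
    intro u hu
    simp only [U, Finset.mem_filter, Finset.mem_univ, true_and] at hu
    obtain ⟨hu1, c0, hc0⟩ := hu
    rw [Nat.card_eq_fintype_card, Fintype.card_subtype]
    refine Finset.card_bij (fun p _ => p.1 * c0⁻¹) (fun p hp => ?_) (fun p hp q hq e => ?_)
      (fun n hn => ?_)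
    · simp only [S, Finset.mem_filter, Finset.mem_product, Finset.mem_univ, true_and] at hp
      obtain ⟨⟨ha, ha1⟩, he⟩ := hp
      simp only [Finset.mem_filter, Finset.mem_univ, true_and]
      set n := p.1 * c0⁻¹
      set a0 := c0 * u * c0⁻¹
      have hna : n * a0 * n⁻¹ = p.2 := by simp only [n, a0, ← he]; group
      have ha01 : a0 ≠ 1 := fun e => hu1 (conj_eq_one_iff.mp e)
      refine Subgroup.mem_normalizer_iff.mpr fun h => ?_
      constructor
      · intro hh
        rw [← hC _ ha ha1, Subgroup.mem_centralizer_singleton_iff, ← hna]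
        rw [← hC _ hc0 ha01, Subgroup.mem_centralizer_singleton_iff] at hh
        calc n * h * n⁻¹ * (n * a0 * n⁻¹) = n * (h * a0) * n⁻¹ := by group
          _ = n * (a0 * h) * n⁻¹ := by rw [hh]
          _ = n * a0 * n⁻¹ * (n * h * n⁻¹) := by group
      · intro hh
        rw [← hC _ ha ha1, Subgroup.mem_centralizer_singleton_iff, ← hna] at hh
        rw [← hC _ hc0 ha01, Subgroup.mem_centralizer_singleton_iff]
        calc h * a0 = n⁻¹ * (n * h * n⁻¹ * (n * a0 * n⁻¹)) * n := by group
          _ = n⁻¹ * (n * a0 * n⁻¹ * (n * h * n⁻¹)) * n := by rw [hh]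
          _ = a0 * h := by group
    · simp only [S, Finset.mem_filter, Finset.mem_product, Finset.mem_univ, true_and] at hp hq
      have e1 : p.1 = q.1 := mul_right_cancel e
      refine Prod.ext e1 ?_
      have e2 := hp.2.trans hq.2.symm
      rw [e1] at e2
      exact mul_left_cancel (mul_right_cancel e2)
    · simp only [Finset.mem_filter, Finset.mem_univ, true_and] at hn
      refine ⟨(n * c0, n * (c0 * u * c0⁻¹) * n⁻¹), ?_, mul_inv_cancel_right n c0⟩
      simp only [S, Finset.mem_filter, Finset.mem_product, Finset.mem_univ, true_and]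
      exact ⟨⟨(Subgroup.mem_normalizer_iff.mp hn _).mp hc0,
        fun e => hu1 (conj_eq_one_iff.mp (conj_eq_one_iff.mp e))⟩, by group⟩
  have h := Finset.card_eq_sum_card_fiberwise hmaps
  rw [Finset.sum_congr rfl hfib, Finset.sum_const, smul_eq_mul, hS, ← Subgroup.card_mul_index N] at h
  rw [hU]
  refine Nat.eq_of_mul_eq_mul_right (Nat.card_pos (α := N)) ?_
  rw [← h]; ring

/-- Lower bound for the number of elements whose order is divisible by a prime with cyclic Sylow
subgroups of prime order. -/
theorem card_singular_ge {r : ℕ} [hr : Fact r.Prime] (P : Sylow r G)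
    (hP : Nat.card (P : Subgroup G) = r) :
    Nat.card (Sylow r G) * Nat.card (Subgroup.centralizer ((P : Subgroup G) : Set G)) * (r - 1) ≤
      r * Nat.card {g : G // r ∣ orderOf g} := by
  classical
  haveI := Fintype.ofFinite G
  haveI := Fintype.ofFinite (Sylow r G)
  let T : Sylow r G → Finset G := fun Q => Finset.univ.filter fun g =>
    g ∈ Subgroup.centralizer ((Q : Subgroup G) : Set G) ∧ r ∣ orderOf g
  have hQr : ∀ Q : Sylow r G, Nat.card (Q : Subgroup G) = r := fun Q =>
    (Q.card_eq_multiplicity.trans P.card_eq_multiplicity.symm).trans hP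
  -- the Sylow subgroup is recovered from a singular element of its centralizer
  have hgen : ∀ (Q : Sylow r G) (g : G), g ∈ T Q → (Q : Subgroup G) = Subgroup.zpowers (g ^ (orderOf g / r)) := by
    intro Q g hg
    simp only [T, Finset.mem_filter, Finset.mem_univ, true_and] at hg
    set s := g ^ (orderOf g / r)
    have hs : orderOf s = r := orderOf_pow_orderOf_div (orderOf_pos g).ne' hg.2
    have hsC : s ∈ Subgroup.centralizer ((Q : Subgroup G) : Set G) := Subgroup.pow_mem _ hg.1 _
    have hsQ : s ∈ (Q : Subgroup G) := by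
      have hz : IsPGroup r (Subgroup.zpowers s) := IsPGroup.of_card (n := 1) (by rw [Nat.card_zpowers, hs, pow_one])
      have h := hz.inf_normalizer_sylow Q
      have hm : s ∈ Subgroup.zpowers s ⊓ Subgroup.normalizer (Q : Set G) :=
        ⟨Subgroup.mem_zpowers s, Subgroup.centralizer_le_normalizer _ hsC⟩
      rw [h] at hm
      exact hm.2
    exact (Subgroup.eq_of_le_of_card_ge (Subgroup.zpowers_le.mpr hsQ)
      (by rw [hQr, Nat.card_zpowers, hs])).symm
  have hdisj : ∀ Q ∈ (Finset.univ : Finset (Sylow r G)), ∀ R ∈ (Finset.univ : Finset (Sylow r G)),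
      Q ≠ R → Disjoint (T Q) (T R) := by
    intro Q _ R _ hne
    rw [Finset.disjoint_left]
    intro g hQ hR
    exact hne (Sylow.ext ((hgen Q g hQ).trans (hgen R g hR).symm))
  have hone : ∀ Q : Sylow r G, Nat.card (Subgroup.centralizer ((Q : Subgroup G) : Set G)) * (r - 1) ≤
      r * (T Q).card := by
    intro Q
    set C := Subgroup.centralizer ((Q : Subgroup G) : Set G)
    let Z : Finset G := Finset.univ.filter fun g => g ∈ C ∧ ¬ r ∣ orderOf g
    let E : Finset G := Finset.univ.filter fun u => u ∈ (Q : Subgroup G) ∧ u ≠ 1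
    have hCc : Nat.card C = (T Q).card + Z.card := by
      rw [Nat.card_eq_fintype_card, Fintype.card_subtype,
        ← Finset.card_filter_add_card_filter_not (fun g => r ∣ orderOf g)]
      congr 1 <;> (congr 1; ext g; simp [T, Z, C])
    have hEc : E.card = r - 1 := by
      rw [show E = (Finset.univ.filter fun u => u ∈ (Q : Subgroup G)).erase 1 by ext; simp [E, and_comm],
        Finset.card_erase_of_mem (Finset.mem_filter.mpr ⟨Finset.mem_univ _, Subgroup.one_mem _⟩)]
      congr 1
      refine Eq.trans ?_ (hQr Q)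
      rw [Nat.card_eq_fintype_card, Fintype.card_subtype]
    have hordE : ∀ u ∈ E, orderOf u = r := by
      intro u hu
      simp only [E, Finset.mem_filter, Finset.mem_univ, true_and] at hu
      have h1 := Subgroup.orderOf_dvd_natCard (Q : Subgroup G) hu.1
      rw [hQr Q] at h1
      exact ((Nat.dvd_prime hr.out).mp h1).resolve_left (fun e => hu.2 (orderOf_eq_one_iff.mp e))
    have hcomm : ∀ u ∈ E, ∀ k ∈ Z, Commute u k := by
      intro u hu k hk
      simp only [E, Z, Finset.mem_filter, Finset.mem_univ, true_and] at hu hk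
      exact Subgroup.mem_centralizer_iff.mp hk.1 u hu.1
    have hle : (E ×ˢ Z).card ≤ (T Q).card := by
      refine Finset.card_le_card_of_injOn (fun p => p.1 * p.2) (fun p hp => ?_) (fun p hp q hq e => ?_)
      · obtain ⟨hu, hk⟩ := Finset.mem_product.mp hp
        have hk' := hk
        simp only [Z, Finset.mem_filter, Finset.mem_univ, true_and] at hk'
        have hu' := hu
        simp only [E, Finset.mem_filter, Finset.mem_univ, true_and] at hu'
        refine Finset.mem_coe.mpr (Finset.mem_filter.mpr ⟨Finset.mem_univ _, C.mul_mem ?_ hk'.1, ?_⟩)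
        · refine Subgroup.mem_centralizer_iff.mpr fun y hy => ?_
          haveI := isCyclic_of_prime_card (hQr Q)
          exact congrArg Subtype.val (mul_comm' (⟨y, hy⟩ : (Q : Subgroup G)) ⟨p.1, hu'.1⟩)
        · rw [(hcomm _ hu _ hk).orderOf_mul_eq_mul_orderOf_of_coprime
            (by rw [hordE _ hu]; exact hr.out.coprime_iff_not_dvd.mpr hk'.2), hordE _ hu]
          exact dvd_mul_right _ _
      · obtain ⟨hu, hk⟩ := Finset.mem_product.mp (Finset.mem_coe.mp hp)
        obtain ⟨hu', hk'⟩ := Finset.mem_product.mp (Finset.mem_coe.mp hq)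
        have he : p.1⁻¹ * (p.1 * p.2) = p.2 := inv_mul_cancel_left _ _
        simp only [Z, Finset.mem_filter, Finset.mem_univ, true_and] at hk hk'
        -- the power killing the `r`-part separates the factors
        have e' : q.1⁻¹ * p.1 = q.2 * p.2⁻¹ := by
          have : p.1 * p.2 = q.1 * q.2 := e
          rw [inv_mul_eq_iff_eq_mul, ← mul_assoc, ← this, mul_inv_cancel_right]
        have hone : q.1⁻¹ * p.1 = 1 := by
          by_contra hne
          have hmem : q.1⁻¹ * p.1 ∈ E := by
            simp only [E, Finset.mem_filter, Finset.mem_univ, true_and] at hu hu' ⊢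
            exact ⟨Subgroup.mul_mem _ (Subgroup.inv_mem _ hu'.1) hu.1, hne⟩
          have hc : Commute q.2 p.2⁻¹ := by
            have h1 : Commute (q.1⁻¹ * p.1) p.2 := hcomm _ hmem _ (by simp [Z, hk])
            have h2 : q.2 = q.1⁻¹ * p.1 * p.2 := by rw [e', inv_mul_cancel_right]
            rw [h2]
            exact (h1.inv_right).mul_left (Commute.inv_right (Commute.refl _))
          have h1 := hc.orderOf_mul_dvd_lcm
          rw [← e', hordE _ hmem, orderOf_inv] at h1
          rcases (Nat.Prime.dvd_mul hr.out).mp (h1.trans (Nat.lcm_dvd_mul _ _)) with h | h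
          · exact hk'.2 h
          · exact hk.2 h
        have h1 : p.1 = q.1 := (inv_mul_eq_one.mp hone).symm
        refine Prod.ext h1 ?_
        have : p.1 * p.2 = q.1 * q.2 := e
        rw [h1] at this
        exact mul_left_cancel this
    rw [Finset.card_product, hEc] at hle
    rw [hCc]
    have h1 : 1 ≤ r := hr.out.one_le
    obtain ⟨r', rfl⟩ := Nat.exists_eq_add_of_le h1
    simp only [Nat.add_sub_cancel_left] at hle ⊢
    nlinarith
  have hC : ∀ Q : Sylow r G, Nat.card (Subgroup.centralizer ((Q : Subgroup G) : Set G)) =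
      Nat.card (Subgroup.centralizer ((P : Subgroup G) : Set G)) := by
    intro Q
    obtain ⟨c, hc⟩ := MulAction.exists_smul_eq G P Q
    have hmap : Subgroup.centralizer ((Q : Subgroup G) : Set G) =
        (Subgroup.centralizer ((P : Subgroup G) : Set G)).map (MulAut.conj c).toMonoidHom := by
      ext x
      rw [Subgroup.mem_map_equiv, Subgroup.mem_centralizer_iff, Subgroup.mem_centralizer_iff,
        MulAut.conj_symm_apply, ← hc, Sylow.coe_subgroup_smul]
      constructor
      · intro h y hy
        have h1 := h (c * y * c⁻¹) ⟨y, hy, rfl⟩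
        calc y * (c⁻¹ * x * c) = c⁻¹ * ((c * y * c⁻¹) * x) * c := by group
          _ = c⁻¹ * (x * (c * y * c⁻¹)) * c := by rw [h1]
          _ = c⁻¹ * x * c * y := by group
      · rintro h _ ⟨y, hy, rfl⟩
        show c * y * c⁻¹ * x = x * (c * y * c⁻¹)
        calc c * y * c⁻¹ * x = c * (y * (c⁻¹ * x * c)) * c⁻¹ := by group
          _ = c * (c⁻¹ * x * c * y) * c⁻¹ := by rw [h y hy]
          _ = x * (c * y * c⁻¹) := by group
    rw [hmap, Subgroup.card_map_of_injective (MulAut.conj c).injective]
  have htot : ∑ Q : Sylow r G, (T Q).card ≤ Nat.card {g : G // r ∣ orderOf g} := by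
    rw [← Finset.card_biUnion hdisj, Nat.card_eq_fintype_card, Fintype.card_subtype]
    refine Finset.card_le_card fun g hg => ?_
    obtain ⟨Q, -, hQ⟩ := Finset.mem_biUnion.mp hg
    simp only [T, Finset.mem_filter, Finset.mem_univ, true_and] at hQ ⊢
    exact hQ.2
  calc Nat.card (Sylow r G) * Nat.card (Subgroup.centralizer ((P : Subgroup G) : Set G)) * (r - 1)
      = ∑ Q : Sylow r G, Nat.card (Subgroup.centralizer ((Q : Subgroup G) : Set G)) * (r - 1) := by
        rw [Finset.sum_congr rfl (fun Q _ => by rw [hC Q]), Finset.sum_const, Finset.card_univ,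
          smul_eq_mul, Nat.card_eq_fintype_card (α := Sylow r G), mul_assoc]
    _ ≤ ∑ Q : Sylow r G, r * (T Q).card := Finset.sum_le_sum fun Q _ => hone Q
    _ ≤ _ := by rw [← Finset.mul_sum]; exact Nat.mul_le_mul_left r htot

end Cfsg.Agent.Block.SmallPSL
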