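import Cfsg.Agent.Lib.Block.SmallPSL.Count
import Cfsg.Agent.Lib.Block.OrderPrime
import Cfsg.Agent.Lib.Block.SmallIndex
import Cfsg.Agent.Lib.Transfer.Abelian

/-!
# Facts on Sylow normalizers in small simple groups
-/

set_option autoImplicit false

namespace Cfsg.Agent.Block.SmallPSL

universe u

variable {G : Type u} [Group G] [Finite G] [IsSimpleGroup G]

omit [IsSimpleGroup G] in
theorem exists_prime_ne_of_mul {p q : ℕ} (hq : q.Prime) (hd : q ∣ Nat.card G) (hpq : q.Coprime p) :
    ∃ g : G, g ≠ 1 ∧ Nat.Coprime (orderOf g) p := by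
  haveI := Fact.mk hq
  obtain ⟨g, hg⟩ := exists_prime_orderOf_dvd_card' (G := G) q hd
  exact ⟨g, fun e => hq.ne_one (by rw [← hg, e, orderOf_one]), hg ▸ hpq⟩

/-- An element of an abelian Sylow subgroup centralized by its normalizer is trivial. -/
theorem eq_one_of_central_normalizer {p : ℕ} [Fact p.Prime] (P : Sylow p G)
    (hP : IsMulCommutative P) (hother : ∃ g : G, g ≠ 1 ∧ Nat.Coprime (orderOf g) p) {x : G}
    (hx : x ∈ (P : Subgroup G)) (hc : ∀ n ∈ Subgroup.normalizer (P : Set G), n * x = x * n) : x = 1 := by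
  have htop : Cfsg.pResidual p G = ⊤ := by
    have hn : (Cfsg.pResidual p G).Normal := by
      constructor
      intro a ha c
      induction ha using Subgroup.closure_induction with
      | mem y hy =>
        refine Subgroup.subset_closure (show Nat.Coprime (orderOf (c * y * c⁻¹)) p from ?_)
        rw [← ((SemiconjBy.conj_mk c y).orderOf_eq c)]
        exact hy
      | one =>
        rw [mul_one, mul_inv_cancel]
        exact one_mem _
      | mul a b _ _ h1 h2 =>
        have : c * (a * b) * c⁻¹ = c * a * c⁻¹ * (c * b * c⁻¹) := by group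
        rw [this]
        exact mul_mem h1 h2
      | inv a _ h =>
        have : c * a⁻¹ * c⁻¹ = (c * a * c⁻¹)⁻¹ := by group
        rw [this]
        exact inv_mem h
    refine (IsSimpleGroup.eq_bot_or_eq_top_of_normal _ hn).resolve_left fun e => ?_
    obtain ⟨g, hg1, hg⟩ := hother
    exact hg1 (Subgroup.mem_bot.mp (e ▸ Subgroup.subset_closure hg))
  have h := (Cfsg.Agent.Transfer.abelian_sylow_decomp P hP).1
  have hm : x ∈ (P : Subgroup G) ⊓ Cfsg.pResidual p G ⊓ ((P : Subgroup G) ⊓
      Subgroup.centralizer (Subgroup.normalizer (P : Set G) : Set G)) :=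
    ⟨⟨hx, htop ▸ Subgroup.mem_top x⟩, hx, fun n hn => hc n hn⟩
  rw [h] at hm
  exact Subgroup.mem_bot.mp hm

omit [IsSimpleGroup G] in
/-- An element of order `p` lies in a conjugate of the Sylow subgroup of order `p`. -/
theorem exists_conj_mem_sylow {p : ℕ} [Fact p.Prime] (P : Sylow p G) {g : G}
    (hg : IsPGroup p (Subgroup.zpowers g)) : ∃ c : G, c * g * c⁻¹ ∈ (P : Subgroup G) := by
  obtain ⟨Q, hQ⟩ := hg.exists_le_sylow
  obtain ⟨c, hc⟩ := MulAction.exists_smul_eq G Q P
  refine ⟨c, ?_⟩
  rw [← hc, Sylow.coe_subgroup_smul]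
  exact ⟨g, hQ (Subgroup.mem_zpowers g), rfl⟩

omit [IsSimpleGroup G] in
theorem isPGroup_of_orderOf {p n : ℕ} {g : G} (hg : orderOf g = p ^ n) [Fact p.Prime] :
    IsPGroup p (Subgroup.zpowers g) :=
  IsPGroup.of_card (n := n) (by rw [Nat.card_zpowers, hg])

omit [IsSimpleGroup G] in
/-- The centralizer of a non-trivial element of a subgroup of prime order. -/
theorem centralizer_eq_of_prime {p : ℕ} [hp : Fact p.Prime] {P : Subgroup G} (hP : Nat.card P = p) {u : G}
    (hu : u ∈ P) (hu1 : u ≠ 1) :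
    Subgroup.centralizer ({u} : Set G) = Subgroup.centralizer (P : Set G) := by
  have hz : Subgroup.zpowers u = P := by
    refine Subgroup.eq_of_le_of_card_ge (Subgroup.zpowers_le.mpr hu) ?_
    rw [hP, Nat.card_zpowers]
    have h1 := Subgroup.orderOf_dvd_natCard P hu
    rw [hP] at h1
    exact (((Nat.dvd_prime hp.out).mp h1).resolve_left (fun e => hu1 (orderOf_eq_one_iff.mp e))).ge
  refine le_antisymm (fun x hx => Subgroup.mem_centralizer_iff.mpr fun y hy => ?_)
    (fun x hx => Subgroup.mem_centralizer_singleton_iff.mpr (Subgroup.mem_centralizer_iff.mp hx u hu).symm)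
  rw [Subgroup.mem_centralizer_singleton_iff] at hx
  obtain ⟨i, rfl⟩ := Subgroup.mem_zpowers_iff.mp (hz.ge hy)
  exact ((Commute.zpow_right hx i).eq).symm

omit [IsSimpleGroup G] in
/-- A prime dividing the centralizer of a `p`-element of a self-centralizing Sylow subgroup of order `p`. -/
theorem eq_prime_of_commute {p r : ℕ} [hp : Fact p.Prime] (hr : r.Prime) (P : Sylow p G)
    (hP : Nat.card (P : Subgroup G) = p)
    (hC : Nat.card (Subgroup.centralizer ((P : Subgroup G) : Set G)) = p) {u s : G}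
    (hu : orderOf u = p) (hs : orderOf s = r) (hc : Commute u s) : r = p := by
  obtain ⟨c, hmem⟩ := exists_conj_mem_sylow P (isPGroup_of_orderOf (n := 1) (by rw [hu, pow_one]))
  have hne : c * u * c⁻¹ ≠ 1 := fun e => hp.out.ne_one (by rw [← hu, conj_eq_one_iff.mp e, orderOf_one])
  have hs' : c * s * c⁻¹ ∈ Subgroup.centralizer ((P : Subgroup G) : Set G) := by
    rw [← centralizer_eq_of_prime hP hmem hne, Subgroup.mem_centralizer_singleton_iff]
    calc c * s * c⁻¹ * (c * u * c⁻¹) = c * (s * u) * c⁻¹ := by group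
      _ = c * (u * s) * c⁻¹ := by rw [hc.eq]
      _ = c * u * c⁻¹ * (c * s * c⁻¹) := by group
  have h := Subgroup.orderOf_dvd_natCard _ hs'
  rw [hC, ← ((SemiconjBy.conj_mk c s).orderOf_eq c), hs] at h
  exact (Nat.prime_dvd_prime_iff_eq hr hp.out).mp h

end Cfsg.Agent.Block.SmallPSL
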