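import Cfsg.Agent.Lib.Block.SmallPSL.Facts
import Cfsg.Agent.Lib.Block.SmallPSL.Recognize

/-!
# Simple groups of order 4080
-/

set_option autoImplicit false

namespace Cfsg.Agent.Block.SmallPSL

universe u

variable {G : Type u} [Group G] [Finite G] [IsSimpleGroup G]

theorem index_ge_seventeen (hcard : Nat.card G = 4080) (H : Subgroup G) (hH : H ≠ ⊤) : 17 ≤ H.index := by
  have h := small_two_card_dvd (small_not_comm (by rw [hcard]; norm_num)) H hH
  rw [hcard] at h
  by_contra hle
  push Not at hle
  have h17 : 17 ∣ H.index.factorial := Dvd.dvd.trans (by norm_num) h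
  have := ((by norm_num : Nat.Prime 17).dvd_factorial).mp h17
  omega

/-- Orders of normalizer and centralizer of a Sylow subgroup of prime order. -/
theorem sylow_data4080 (hcard : Nat.card G = 4080) {p m : ℕ} [Fact p.Prime] (hm : 4080 = p * m)
    (hpm : ¬ p ∣ m) (P : Sylow p G) :
    Nat.card (P : Subgroup G) = p ∧ ∃ e n : ℕ, 1 < e ∧ e ∣ p - 1 ∧ n ∣ m ∧ n % p = 1 ∧ 17 ≤ n ∧
      (Subgroup.normalizer ((P : Subgroup G) : Set G)).index = n ∧ Nat.card (Sylow p G) = n ∧
      p ∣ Nat.card (Subgroup.centralizer ((P : Subgroup G) : Set G)) ∧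
      Nat.card (Subgroup.normalizer ((P : Subgroup G) : Set G)) =
        Nat.card (Subgroup.centralizer ((P : Subgroup G) : Set G)) * e ∧
      Nat.card (Subgroup.centralizer ((P : Subgroup G) : Set G)) * e * n = 4080 := by
  have hna : ¬ IsMulCommutative G := small_not_comm (by rw [hcard]; norm_num)
  have hc : Nat.card G = p * m := hcard.trans hm
  refine ⟨OrdP.card_sylow_eq hc hpm P, ?_⟩
  obtain ⟨e, k', hk'0, -, herel, he1, hed, hpC, -⟩ := OrdP.exists_e hna hc hpm P
  obtain ⟨k, hk0, hn, hk, hidx, hNc, -⟩ :=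
    small_sylow_number hna P (a := 1) (m := m) (by rw [hc, pow_one]) one_ne_zero
  have hN : Nat.card (Subgroup.normalizer ((P : Subgroup G) : Set G)) =
      Nat.card (Subgroup.centralizer ((P : Subgroup G) : Set G)) * e := by
    rw [← herel, Subgroup.relIndex]
    have hm' := Subgroup.card_mul_index ((Subgroup.centralizer ((P : Subgroup G) : Set G)).subgroupOf
      (Subgroup.normalizer ((P : Subgroup G) : Set G)))
    rw [Nat.card_congr (Subgroup.subgroupOfEquivOfLe (Subgroup.centralizer_le_normalizer _)).toEquiv] at hm'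
    exact hm'.symm
  refine ⟨e, p * k + 1, he1, hed, hk, ?_, ?_, hidx, hn, hpC, hN, by rw [← hN, hNc, hcard]⟩
  · rw [Nat.mul_add_mod, Nat.mod_eq_of_lt (Fact.out : p.Prime).one_lt]
  · rw [← hidx]
    refine index_ge_seventeen hcard _ fun e' => ?_
    rw [e', Subgroup.index_top] at hidx
    have := (Fact.out : p.Prime).two_le
    nlinarith

theorem seventeen_data (hcard : Nat.card G = 4080) [Fact (Nat.Prime 17)] (P : Sylow 17 G) :
    Nat.card (P : Subgroup G) = 17 ∧ (Subgroup.normalizer ((P : Subgroup G) : Set G)).index = 120 ∧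
      Nat.card (Subgroup.centralizer ((P : Subgroup G) : Set G)) = 17 := by
  obtain ⟨hP, e, n, he1, hed, hnm, hn1, hn17, hidx, -, hpC, -, hCe⟩ :=
    sylow_data4080 hcard (p := 17) (m := 240) (by norm_num) (by norm_num) P
  have hnle : n ≤ 240 := Nat.le_of_dvd (by norm_num) hnm
  have hn : n = 120 := by
    interval_cases n <;> omega
  refine ⟨hP, hidx.trans hn, ?_⟩
  subst hn
  obtain ⟨c, hc⟩ := hpC
  rw [hc] at hCe ⊢
  have h2 : c * e = 2 := by rw [mul_assoc 17 c e] at hCe; omega
  rcases (Nat.dvd_prime Nat.prime_two).mp (Dvd.intro c (by rw [mul_comm]; exact h2) : e ∣ 2) with h | h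
  · omega
  · rw [h] at h2; omega

theorem not_seventeen_commute (hcard : Nat.card G = 4080) {r : ℕ} (hr : r.Prime) (hr17 : r ≠ 17) {g : G}
    (h17 : 17 ∣ orderOf g) : ¬ r ∣ orderOf g := by
  intro hrd
  haveI : Fact (Nat.Prime 17) := ⟨by norm_num⟩
  obtain ⟨P⟩ : Nonempty (Sylow 17 G) := inferInstance
  obtain ⟨hP, -, hC⟩ := seventeen_data hcard P
  exact hr17 (eq_prime_of_commute hr P hP hC
    (orderOf_pow_orderOf_div (orderOf_pos g).ne' h17) (orderOf_pow_orderOf_div (orderOf_pos g).ne' hrd)
    (Commute.pow_pow (Commute.refl g) _ _))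

theorem centralizer_prime_not_seventeen (hcard : Nat.card G = 4080) {p : ℕ} [Fact p.Prime] (hp : p ≠ 17)
    (P : Sylow p G) (hP : Nat.card (P : Subgroup G) = p) :
    ¬ 17 ∣ Nat.card (Subgroup.centralizer ((P : Subgroup G) : Set G)) := by
  intro h
  haveI : Fact (Nat.Prime 17) := ⟨by norm_num⟩
  obtain ⟨Q⟩ : Nonempty (Sylow 17 G) := inferInstance
  obtain ⟨hQ, -, hC⟩ := seventeen_data hcard Q
  obtain ⟨u, hu⟩ := exists_prime_orderOf_dvd_card' (G := Subgroup.centralizer ((P : Subgroup G) : Set G)) 17 h
  obtain ⟨s, hs⟩ := exists_prime_orderOf_dvd_card' (G := (P : Subgroup G)) p (by rw [hP])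
  refine hp (eq_prime_of_commute (Fact.out : p.Prime) Q hQ hC (u := (u : G)) (s := (s : G))
    (by rw [Subgroup.orderOf_coe, hu]) (by rw [Subgroup.orderOf_coe, hs]) ?_)
  exact (Subgroup.mem_centralizer_iff.mp u.2 _ s.2).symm

set_option maxHeartbeats 1000000 in
theorem five_data (hcard : Nat.card G = 4080) [Fact (Nat.Prime 5)] (P : Sylow 5 G) :
    Nat.card (P : Subgroup G) = 5 ∧ (Subgroup.normalizer ((P : Subgroup G) : Set G)).index = 136 ∧
      Nat.card (Subgroup.normalizer ((P : Subgroup G) : Set G)) = 30 ∧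
      Nat.card (Subgroup.centralizer ((P : Subgroup G) : Set G)) = 15 := by
  classical
  haveI : Fact (Nat.Prime 3) := ⟨Nat.prime_three⟩
  haveI : Fact (Nat.Prime 17) := ⟨by norm_num⟩
  haveI := Fintype.ofFinite G
  obtain ⟨hP, e, n, he1, hed, hnm, hn1, hn17, hidx, hncard, hpC, hN, hCe⟩ :=
    sylow_data4080 hcard (p := 5) (m := 816) (by norm_num) (by norm_num) P
  refine ⟨hP, ?_⟩
  set c5 := Nat.card (Subgroup.centralizer ((P : Subgroup G) : Set G)) with hc5
  have hn : n = 51 ∨ n = 136 ∨ n = 816 := by
    have h1 : n ∈ Nat.divisors 816 := Nat.mem_divisors.mpr ⟨hnm, by norm_num⟩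
    have h2 : ∀ d ∈ Nat.divisors 816, d % 5 = 1 → 17 ≤ d → d = 51 ∨ d = 136 ∨ d = 816 := by decide +kernel
    exact h2 n h1 hn1 hn17
  have he : e = 2 ∨ e = 4 := by
    have h2 := Nat.le_of_dvd (by norm_num) hed
    rcases (show e = 2 ∨ e = 3 ∨ e = 4 by omega) with h | h | h
    · exact Or.inl h
    · rw [h] at hed; norm_num at hed
    · exact Or.inr h
  have h136 : n = 136 := by
    rcases hn with h | h | h
    · exfalso
      subst h
      have hce : c5 * e = 80 := by omega
      have h35 : ¬ 3 ∣ c5 := by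
        intro h3
        have : 3 ∣ 80 := hce ▸ h3.mul_right e
        norm_num at this
      -- too many singular elements
      obtain ⟨Q⟩ : Nonempty (Sylow 3 G) := inferInstance
      obtain ⟨R⟩ : Nonempty (Sylow 17 G) := inferInstance
      obtain ⟨hQ, e3, n3, he31, he3d, -, -, -, -, hn3card, -, -, hCe3⟩ :=
        sylow_data4080 hcard (p := 3) (m := 1360) (by norm_num) (by norm_num) Q
      obtain ⟨hR, hidx17, hC17⟩ := seventeen_data hcard R
      have s3 := card_singular_ge Q hQ
      have s5 := card_singular_ge P hP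
      have s17 := card_singular_ge R hR
      rw [hn3card] at s3
      rw [hncard, ← hc5] at s5
      rw [Sylow.card_eq_index_normalizer R] at s17
      erw [hidx17] at s17
      rw [hC17] at s17
      have e32 : e3 = 2 := by
        have := Nat.le_of_dvd (by norm_num) he3d
        omega
      rw [e32] at hCe3
      set A3 := Finset.univ.filter (fun g : G => 3 ∣ orderOf g)
      set A5 := Finset.univ.filter (fun g : G => 5 ∣ orderOf g)
      set A17 := Finset.univ.filter (fun g : G => 17 ∣ orderOf g)
      rw [show Nat.card {g : G // 3 ∣ orderOf g} = A3.card by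
        rw [Nat.card_eq_fintype_card, Fintype.card_subtype]] at s3
      rw [show Nat.card {g : G // 5 ∣ orderOf g} = A5.card by
        rw [Nat.card_eq_fintype_card, Fintype.card_subtype]] at s5
      rw [show Nat.card {g : G // 17 ∣ orderOf g} = A17.card by
        rw [Nat.card_eq_fintype_card, Fintype.card_subtype]] at s17
      have hne1 : ∀ {r : ℕ}, 1 < r → (1 : G) ∉ Finset.univ.filter (fun g : G => r ∣ orderOf g) := by
        intro r hr h
        simp only [Finset.mem_filter, Finset.mem_univ, true_and, orderOf_one, Nat.dvd_one] at h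
        omega
      have d35 : Disjoint A3 A5 := by
        rw [Finset.disjoint_left]
        intro g h3 h5
        simp only [A3, A5, Finset.mem_filter, Finset.mem_univ, true_and] at h3 h5
        obtain ⟨d, hd⟩ := exists_conj_mem_sylow P (g := g ^ (orderOf g / 5))
          (isPGroup_of_orderOf (n := 1) (by rw [orderOf_pow_orderOf_div (orderOf_pos g).ne' h5, pow_one]))
        have hne : d * g ^ (orderOf g / 5) * d⁻¹ ≠ 1 := fun h => by
          have h' := orderOf_pow_orderOf_div (orderOf_pos g).ne' h5
          rw [conj_eq_one_iff.mp h, orderOf_one] at h'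
          omega
        have hm : d * g * d⁻¹ ∈ Subgroup.centralizer ((P : Subgroup G) : Set G) := by
          rw [← centralizer_eq_of_prime hP hd hne, Subgroup.mem_centralizer_singleton_iff]
          have hc : g * g ^ (orderOf g / 5) = g ^ (orderOf g / 5) * g := (Commute.self_pow g _).eq
          calc d * g * d⁻¹ * (d * g ^ (orderOf g / 5) * d⁻¹) = d * (g * g ^ (orderOf g / 5)) * d⁻¹ := by group
            _ = d * (g ^ (orderOf g / 5) * g) * d⁻¹ := by rw [hc]
            _ = d * g ^ (orderOf g / 5) * d⁻¹ * (d * g * d⁻¹) := by group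
        have := Subgroup.orderOf_dvd_natCard _ hm
        rw [← (SemiconjBy.conj_mk d g).orderOf_eq d] at this
        exact h35 (h3.trans this)
      have d17 : Disjoint (A3 ∪ A5) A17 := by
        rw [Finset.disjoint_left]
        intro g hg h17
        simp only [A3, A5, A17, Finset.mem_union, Finset.mem_filter, Finset.mem_univ, true_and] at hg h17
        rcases hg with h | h
        · exact not_seventeen_commute hcard Nat.prime_three (by norm_num) h17 h
        · exact not_seventeen_commute hcard (Fact.out : Nat.Prime 5) (by norm_num) h17 h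
      have htot := Finset.card_le_univ (insert (1 : G) (A3 ∪ A5 ∪ A17))
      rw [Finset.card_insert_of_notMem (by
          simp only [Finset.mem_union]
          rintro ((h | h) | h) <;> exact hne1 (by norm_num) h),
        Finset.card_union_of_disjoint d17, Finset.card_union_of_disjoint d35, ← Nat.card_eq_fintype_card,
        hcard] at htot
      rw [show n3 * Nat.card (Subgroup.centralizer ((Q : Subgroup G) : Set G)) * (3 - 1) = 4080 by
        rw [← hCe3]; ring] at s3
      norm_num at s3 s5 s17
      rcases he with h | h <;> rw [h] at hce <;>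
        omega
    · exact h
    · exfalso
      subst h
      have : c5 * e = 5 := by omega
      obtain ⟨k, hk⟩ := hpC
      rw [hk, mul_assoc] at this
      have hke : k * e = 1 := by omega
      have := Nat.eq_one_of_mul_eq_one_left hke
      omega
  subst h136
  have hce : c5 * e = 30 := by omega
  have he2 : e = 2 := by
    rcases he with h | h
    · exact h
    · rw [h] at hce; omega
  rw [he2] at hce hN
  exact ⟨hidx, by omega, by omega⟩

set_option maxHeartbeats 1000000 in
theorem three_centralizer (hcard : Nat.card G = 4080) [Fact (Nat.Prime 3)] (Q : Sylow 3 G) :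
    Nat.card (Q : Subgroup G) = 3 ∧
      Nat.card (Subgroup.centralizer ((Q : Subgroup G) : Set G)) = 15 := by
  classical
  haveI : Fact (Nat.Prime 5) := ⟨by norm_num⟩
  obtain ⟨hQ, e, n, he1, hed, hnm, hn1, hn17, hidx, -, hpC, hN, hCe⟩ :=
    sylow_data4080 hcard (p := 3) (m := 1360) (by norm_num) (by norm_num) Q
  refine ⟨hQ, ?_⟩
  set C := Subgroup.centralizer ((Q : Subgroup G) : Set G) with hCdef
  have he : e = 2 := by
    have := Nat.le_of_dvd (by norm_num) hed
    omega
  subst he
  obtain ⟨P⟩ : Nonempty (Sylow 5 G) := inferInstance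
  obtain ⟨hP, -, hNP, hCP⟩ := five_data hcard P
  -- five divides the centralizer
  have h5 : 5 ∣ Nat.card C := by
    obtain ⟨v, hv⟩ := exists_prime_orderOf_dvd_card' (G := Subgroup.centralizer ((P : Subgroup G) : Set G)) 3
      (by rw [hCP]; norm_num)
    obtain ⟨d, hd⟩ := exists_conj_mem_sylow Q
      (isPGroup_of_orderOf (n := 1) (g := (v : G)) (by rw [Subgroup.orderOf_coe, hv, pow_one]))
    obtain ⟨u, hu⟩ := exists_prime_orderOf_dvd_card' (G := (P : Subgroup G)) 5 (by rw [hP])
    have hne : d * (v : G) * d⁻¹ ≠ 1 := fun h => by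
      rw [← Subgroup.orderOf_coe, conj_eq_one_iff.mp h, orderOf_one] at hv
      omega
    have hm : d * (u : G) * d⁻¹ ∈ C := by
      rw [hCdef, ← centralizer_eq_of_prime hQ hd hne, Subgroup.mem_centralizer_singleton_iff]
      have h := Subgroup.mem_centralizer_iff.mp v.2 _ u.2
      calc d * (u : G) * d⁻¹ * (d * (v : G) * d⁻¹) = d * ((u : G) * v) * d⁻¹ := by group
        _ = d * ((v : G) * u) * d⁻¹ := by rw [h]
        _ = d * (v : G) * d⁻¹ * (d * (u : G) * d⁻¹) := by group
    have := Subgroup.orderOf_dvd_natCard _ hm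
    rwa [← (SemiconjBy.conj_mk d (u : G)).orderOf_eq d, Subgroup.orderOf_coe, hu] at this
  have h17 : ¬ 17 ∣ Nat.card C := centralizer_prime_not_seventeen hcard (by norm_num) Q hQ
  obtain ⟨c, hc⟩ : 15 ∣ Nat.card C := Nat.Coprime.mul_dvd_of_dvd_of_dvd (by norm_num) hpC h5
  rw [hc] at hCe h17 ⊢
  have hn : c * n = 136 := by
    have : 15 * (c * n) * 2 = 4080 := by rw [← hCe]; ring
    omega
  have hcn : c ≤ 8 := by
    by_contra h
    push Not at h
    nlinarith [Nat.mul_le_mul h hn17]
  have hc4 : c = 1 ∨ c = 4 := by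
    have hd : c ∣ 136 := Dvd.intro n hn
    interval_cases c <;> omega
  rcases hc4 with rfl | rfl
  · rfl
  exfalso
  -- the Sylow subgroup of order five of the centralizer is normal
  obtain ⟨S⟩ : Nonempty (Sylow 5 C) := inferInstance
  have hSc : Nat.card (S : Subgroup C) = 5 := by
    rw [S.card_eq_multiplicity, hc, show 15 * 4 = 5 * 12 from rfl, Nat.factorization_mul (by norm_num) (by norm_num),
      Finsupp.add_apply, (Fact.out : Nat.Prime 5).factorization_self,
      Nat.factorization_eq_zero_of_not_dvd (by norm_num)]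
    rfl
  obtain ⟨u, hu⟩ := exists_prime_orderOf_dvd_card' (G := (S : Subgroup C)) 5 (by rw [hSc])
  obtain ⟨d, hd⟩ := exists_conj_mem_sylow P (g := ((u : C) : G))
    (isPGroup_of_orderOf (n := 1) (by rw [Subgroup.orderOf_coe, Subgroup.orderOf_coe, hu, pow_one]))
  have hne : d * ((u : C) : G) * d⁻¹ ≠ 1 := fun h => by
    rw [← Subgroup.orderOf_coe, ← Subgroup.orderOf_coe, conj_eq_one_iff.mp h, orderOf_one] at hu
    omega
  have hzP : ∀ y : G, y ∈ (P : Subgroup G) → y ∈ Subgroup.zpowers (d * ((u : C) : G) * d⁻¹) := fun y hy => by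
    have : Subgroup.zpowers (d * ((u : C) : G) * d⁻¹) = (P : Subgroup G) := by
      refine Subgroup.eq_of_le_of_card_ge (Subgroup.zpowers_le.mpr hd) ?_
      rw [hP, Nat.card_zpowers, ← (SemiconjBy.conj_mk d ((u : C) : G)).orderOf_eq d, Subgroup.orderOf_coe,
        Subgroup.orderOf_coe, hu]
    rwa [this]
  -- the normalizer of `S` in `C` has order at least fifteen
  have hmod : Nat.card (Sylow 5 C) ≡ 1 [MOD 5] := card_sylow_modEq_one 5 C
  have hdvd : Nat.card (Sylow 5 C) ∣ 4 := by
    rw [Sylow.card_eq_index_normalizer S]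
    have hm := Subgroup.card_mul_index (Subgroup.normalizer (S : Set C))
    rw [hc] at hm
    -- the centre part and `S`
    obtain ⟨t, ht⟩ := exists_prime_orderOf_dvd_card' (G := (Q : Subgroup G)) 3 (by rw [hQ])
    have htC : (t : G) ∈ C := by
      haveI := isCyclic_of_prime_card hQ
      exact Subgroup.mem_centralizer_iff.mpr fun y hy =>
        congrArg Subtype.val (mul_comm' (⟨y, hy⟩ : (Q : Subgroup G)) t)
    have htN : (⟨(t : G), htC⟩ : C) ∈ Subgroup.normalizer (S : Set C) := by
      refine Subgroup.centralizer_le_normalizer _ (Subgroup.mem_centralizer_iff.mpr fun y _ => Subtype.ext ?_)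
      exact ((Subgroup.mem_centralizer_iff.mp (y : C).2) t t.2).symm
    have h3 : 3 ∣ Nat.card (Subgroup.normalizer (S : Set C)) := by
      have := Subgroup.orderOf_dvd_natCard _ htN
      rw [← Subgroup.orderOf_coe] at this
      change orderOf (t : G) ∣ _ at this
      rwa [Subgroup.orderOf_coe, ht] at this
    have h5' : 5 ∣ Nat.card (Subgroup.normalizer (S : Set C)) := by
      have hle : (S : Subgroup C) ≤ Subgroup.normalizer (S : Set C) := Subgroup.le_normalizer
      have := Subgroup.card_dvd_of_le hle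
      rwa [hSc] at this
    obtain ⟨j, hj⟩ := Nat.Coprime.mul_dvd_of_dvd_of_dvd (by norm_num) h3 h5'
    rw [hj] at hm
    exact Dvd.intro_left j (by
      refine Nat.eq_of_mul_eq_mul_left (show 0 < 15 by norm_num) ?_
      rw [← mul_assoc]
      exact hm)
  have h1 : Nat.card (Sylow 5 C) = 1 := by
    have hle := Nat.le_of_dvd (by norm_num) hdvd
    unfold Nat.ModEq at hmod
    omega
  have hnormal : (S : Subgroup C).Normal := by
    rw [← Subgroup.normalizer_eq_top_iff, ← Subgroup.index_eq_one]
    rw [Sylow.card_eq_index_normalizer S] at h1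
    exact h1
  have hle : C.map (MulAut.conj d).toMonoidHom ≤ Subgroup.normalizer ((P : Subgroup G) : Set G) := by
    rintro _ ⟨x, hx, rfl⟩
    rw [Subgroup.mem_normalizer_iff]
    have fwd : ∀ x ∈ C, ∀ y ∈ (P : Subgroup G), (d * x * d⁻¹) * y * (d * x * d⁻¹)⁻¹ ∈ (P : Subgroup G) := by
      intro x hx y hy
      obtain ⟨i, rfl⟩ := Subgroup.mem_zpowers_iff.mp (hzP y hy)
      rw [← conj_zpow]
      refine Subgroup.zpow_mem _ ?_ i
      have h := hnormal.conj_mem (u : C) u.2 ⟨x, hx⟩
      have hgen : ∀ w : C, w ∈ (S : Subgroup C) → d * (w : G) * d⁻¹ ∈ (P : Subgroup G) := by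
        intro w hw
        have hz : Subgroup.zpowers (u : C) = (S : Subgroup C) := by
          refine Subgroup.eq_of_le_of_card_ge (Subgroup.zpowers_le.mpr u.2) ?_
          rw [hSc, Nat.card_zpowers, Subgroup.orderOf_coe, hu]
        obtain ⟨l, rfl⟩ := Subgroup.mem_zpowers_iff.mp (hz.ge hw)
        rw [Subgroup.coe_zpow, ← conj_zpow]
        exact Subgroup.zpow_mem _ hd l
      have := hgen _ h
      simpa [mul_assoc] using this
    intro y
    refine ⟨fun hy => fwd x hx y hy, fun hy => ?_⟩
    have := fwd x⁻¹ (inv_mem hx) _ hy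
    simpa [mul_assoc] using this
  have h60 := Subgroup.card_dvd_of_le hle
  rw [Subgroup.card_map_of_injective (MulAut.conj d).injective, hNP, hc] at h60
  norm_num at h60

set_option maxHeartbeats 1000000 in
theorem iso_psl_4080 (hcard : Nat.card G = 4080) {F : Type*} [Field F] [Fintype F]
    (hF : Fintype.card F = 16) : Nonempty (G ≃* Matrix.ProjectiveSpecialLinearGroup (Fin 2) F) := by
  classical
  haveI : Fact (Nat.Prime 3) := ⟨Nat.prime_three⟩
  haveI : Fact (Nat.Prime 5) := ⟨by norm_num⟩
  haveI : Fact (Nat.Prime 17) := ⟨by norm_num⟩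
  haveI := Fintype.ofFinite G
  obtain ⟨P⟩ : Nonempty (Sylow 5 G) := inferInstance
  obtain ⟨Q⟩ : Nonempty (Sylow 3 G) := inferInstance
  obtain ⟨R⟩ : Nonempty (Sylow 17 G) := inferInstance
  obtain ⟨hR, hR120, hCR⟩ := seventeen_data hcard R
  obtain ⟨hP, hP136, hNP, hCP⟩ := five_data hcard P
  obtain ⟨hQ, hCQ⟩ := three_centralizer hcard Q
  set A := Subgroup.centralizer ((P : Subgroup G) : Set G) with hAdef
  -- every non-trivial element of `A` has centralizer `A`
  have hA : ∀ a ∈ A, a ≠ 1 → Subgroup.centralizer ({a} : Set G) = A := by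
    haveI : IsCyclic A := by
      obtain ⟨u, hu⟩ := exists_prime_orderOf_dvd_card' (G := A) 5 (by rw [hCP]; norm_num)
      obtain ⟨v, hv⟩ := exists_prime_orderOf_dvd_card' (G := A) 3 (by rw [hCP]; norm_num)
      have huP : (u : G) ∈ (P : Subgroup G) := by
        have hz : IsPGroup 5 (Subgroup.zpowers (u : G)) :=
          isPGroup_of_orderOf (n := 1) (by rw [Subgroup.orderOf_coe, hu, pow_one])
        have hm : (u : G) ∈ Subgroup.zpowers (u : G) ⊓ Subgroup.normalizer (P : Set G) :=
          ⟨Subgroup.mem_zpowers _, Subgroup.centralizer_le_normalizer _ u.2⟩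
        rw [hz.inf_normalizer_sylow P] at hm
        exact hm.2
      have hc : Commute u v := Subtype.ext ((Subgroup.mem_centralizer_iff.mp v.2) u huP)
      exact isCyclic_of_orderOf_eq_card (u * v) (by
        rw [hc.orderOf_mul_eq_mul_orderOf_of_coprime (by rw [hu, hv]; norm_num), hu, hv, hCP])
    intro a ha ha1
    have hcomm : A ≤ Subgroup.centralizer ({a} : Set G) := fun y hy =>
      Subgroup.mem_centralizer_singleton_iff.mpr
        (congrArg Subtype.val (mul_comm' (⟨y, hy⟩ : A) ⟨a, ha⟩))
    refine (Subgroup.eq_of_le_of_card_ge hcomm ?_).symm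
    have hd : orderOf a ∣ 15 := hCP ▸ Subgroup.orderOf_dvd_natCard A ha
    have hgen : ∀ (r : ℕ) [Fact r.Prime] (S : Sylow r G), Nat.card (S : Subgroup G) = r →
        Nat.card (Subgroup.centralizer ((S : Subgroup G) : Set G)) = 15 → r ∣ orderOf a →
        Nat.card (Subgroup.centralizer ({a} : Set G)) ≤ Nat.card A := by
      intro r _ S hS hCS hr
      obtain ⟨d, hd⟩ := exists_conj_mem_sylow S (g := a ^ (orderOf a / r))
        (isPGroup_of_orderOf (n := 1) (by rw [orderOf_pow_orderOf_div (orderOf_pos a).ne' hr, pow_one]))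
      have hne : d * a ^ (orderOf a / r) * d⁻¹ ≠ 1 := fun h => by
        have h' := orderOf_pow_orderOf_div (orderOf_pos a).ne' hr
        rw [conj_eq_one_iff.mp h, orderOf_one] at h'
        exact (Fact.out : r.Prime).ne_one h'.symm
      rw [hCP, ← hCS, ← centralizer_eq_of_prime hS hd hne]
      have hcm : Nat.card ((Subgroup.centralizer ({a} : Set G)).map (MulAut.conj d).toMonoidHom) =
          Nat.card (Subgroup.centralizer ({a} : Set G)) :=
        Subgroup.card_map_of_injective (MulAut.conj d).injective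
      rw [← hcm]
      refine Nat.le_of_dvd Nat.card_pos (Subgroup.card_dvd_of_le ?_)
      rintro _ ⟨x, hx, rfl⟩
      rw [SetLike.mem_coe, Subgroup.mem_centralizer_singleton_iff] at hx
      rw [Subgroup.mem_centralizer_singleton_iff]
      show d * x * d⁻¹ * (d * a ^ (orderOf a / r) * d⁻¹) = d * a ^ (orderOf a / r) * d⁻¹ * (d * x * d⁻¹)
      calc d * x * d⁻¹ * (d * a ^ (orderOf a / r) * d⁻¹) = d * (x * a ^ (orderOf a / r)) * d⁻¹ := by group
        _ = d * (a ^ (orderOf a / r) * x) * d⁻¹ := by rw [(Commute.pow_right hx _).eq]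
        _ = d * a ^ (orderOf a / r) * d⁻¹ * (d * x * d⁻¹) := by group
    by_cases h3 : 3 ∣ orderOf a
    · exact hgen 3 Q hQ hCQ h3
    · refine hgen 5 P hP hCP ?_
      have hne : orderOf a ≠ 1 := fun h => ha1 (orderOf_eq_one_iff.mp h)
      have hle := Nat.le_of_dvd (by norm_num) hd
      interval_cases orderOf a <;> omega
  have hNA : (Subgroup.normalizer (A : Set G)).index = 136 := by
    rw [← hP136]
    congr 1
    refine le_antisymm (fun x hx => ?_) (fun x hx => ?_)
    · have hxP : x • P = P := by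
        refine Sylow.ext ?_
        rw [Sylow.coe_subgroup_smul]
        refine Subgroup.eq_of_le_of_card_ge ?_ ?_
        · rintro _ ⟨y, hy, rfl⟩
          show x * y * x⁻¹ ∈ (P : Subgroup G)
          have hyA : y ∈ A := by
            haveI := isCyclic_of_prime_card hP
            exact Subgroup.mem_centralizer_iff.mpr fun z hz =>
              congrArg Subtype.val (mul_comm' (⟨z, hz⟩ : (P : Subgroup G)) ⟨y, hy⟩)
          have hxy : x * y * x⁻¹ ∈ A := (Subgroup.mem_normalizer_iff.mp hx y).mp hyA
          have ho : IsPGroup 5 (Subgroup.zpowers (x * y * x⁻¹)) := by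
            obtain ⟨k, hk⟩ := IsPGroup.iff_orderOf.mp P.isPGroup' ⟨y, hy⟩
            refine isPGroup_of_orderOf (n := k) ?_
            rw [← (SemiconjBy.conj_mk x y).orderOf_eq x, ← hk, Subgroup.orderOf_mk]
          have hm : x * y * x⁻¹ ∈ Subgroup.zpowers (x * y * x⁻¹) ⊓ Subgroup.normalizer (P : Set G) :=
            ⟨Subgroup.mem_zpowers _, Subgroup.centralizer_le_normalizer _ hxy⟩
          rw [ho.inf_normalizer_sylow P] at hm
          exact hm.2
        · rw [Subgroup.pointwise_smul_def]
          exact (Subgroup.card_map_of_injective (MulAut.conj x).injective).ge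
      exact Sylow.smul_eq_iff_mem_normalizer.mp hxP
    · refine Subgroup.mem_normalizer_iff.mpr fun y => ?_
      have key : ∀ g ∈ Subgroup.normalizer ((P : Subgroup G) : Set G), ∀ y ∈ A, g * y * g⁻¹ ∈ A := by
        intro g hg y hy
        refine Subgroup.mem_centralizer_iff.mpr fun z hz => ?_
        have hz' : g⁻¹ * z * g ∈ (P : Subgroup G) := by
          have := (Subgroup.mem_normalizer_iff.mp (inv_mem hg) z).mp hz
          simpa using this
        have h := Subgroup.mem_centralizer_iff.mp hy _ hz'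
        calc z * (g * y * g⁻¹) = g * ((g⁻¹ * z * g) * y) * g⁻¹ := by group
          _ = g * (y * (g⁻¹ * z * g)) * g⁻¹ := by rw [h]
          _ = g * y * g⁻¹ * z := by group
      refine ⟨key x hx y, fun hy => ?_⟩
      have := key x⁻¹ (inv_mem hx) _ hy
      simpa [mul_assoc] using this
  have hcR : ∀ a ∈ (R : Subgroup G), a ≠ 1 →
      Subgroup.centralizer ({a} : Set G) = (R : Subgroup G) := by
    intro a ha ha1
    rw [centralizer_eq_of_prime hR ha ha1]
    haveI := isCyclic_of_prime_card hR
    refine (Subgroup.eq_of_le_of_card_ge (fun x hx => Subgroup.mem_centralizer_iff.mpr fun y hy => ?_)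
      (by rw [hCR, hR])).symm
    exact congrArg Subtype.val (mul_comm' (⟨y, hy⟩ : (R : Subgroup G)) ⟨x, hx⟩)
  have hUA := card_conj_union A hA
  rw [hNA, hCP] at hUA
  have hU17 := card_conj_union (R : Subgroup G) hcR
  rw [hR120, hR] at hU17
  have hX : Nat.card {g : G // g ^ 16 = 1} ≤ 256 := by
    simp only [Nat.card_eq_fintype_card, Fintype.card_subtype] at hUA hU17 ⊢
    set S16 := Finset.univ.filter (fun g : G => g ^ 16 = 1)
    set SA := Finset.univ.filter (fun g : G => g ≠ 1 ∧ ∃ c : G, c * g * c⁻¹ ∈ A)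
    set S17 := Finset.univ.filter (fun g : G => g ≠ 1 ∧ ∃ c : G, c * g * c⁻¹ ∈ (R : Subgroup G))
    have hord : ∀ (B : Subgroup G) (g c : G), c * g * c⁻¹ ∈ B → orderOf g ∣ Nat.card B := by
      intro B g c hm
      rw [(SemiconjBy.conj_mk c g).orderOf_eq c]
      exact Subgroup.orderOf_dvd_natCard _ hm
    have hA17 : Disjoint SA S17 := by
      rw [Finset.disjoint_left]
      intro g hg hg'
      simp only [SA, S17, Finset.mem_filter, Finset.mem_univ, true_and] at hg hg'
      obtain ⟨hg1, c, hc⟩ := hg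
      obtain ⟨-, d, hd⟩ := hg'
      have a := hord _ g c hc
      have b := hord _ g d hd
      rw [hCP] at a
      rw [hR] at b
      exact hg1 (orderOf_eq_one_iff.mp (Nat.dvd_one.mp (by simpa using Nat.dvd_gcd a b)))
    have h16 : Disjoint (SA ∪ S17) S16 := by
      rw [Finset.disjoint_left]
      intro g hg hg16
      simp only [S16, Finset.mem_filter, Finset.mem_univ, true_and] at hg16
      have c16 : orderOf g ∣ 16 := orderOf_dvd_of_pow_eq_one hg16
      rcases Finset.mem_union.mp hg with hg | hg <;>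
        simp only [SA, S17, Finset.mem_filter, Finset.mem_univ, true_and] at hg <;>
        obtain ⟨hg1, c, hc⟩ := hg
      · have a := hord _ g c hc
        rw [hCP] at a
        exact hg1 (orderOf_eq_one_iff.mp (Nat.dvd_one.mp (by simpa using Nat.dvd_gcd a c16)))
      · have a := hord _ g c hc
        rw [hR] at a
        exact hg1 (orderOf_eq_one_iff.mp (Nat.dvd_one.mp (by simpa using Nat.dvd_gcd a c16)))
    have h := Finset.card_le_univ (SA ∪ S17 ∪ S16)
    rw [Finset.card_union_of_disjoint h16, Finset.card_union_of_disjoint hA17, ← Nat.card_eq_fintype_card,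
      hcard] at h
    omega
  refine iso_psl_of_involution_centralizer (f := 4) (by norm_num) (by rw [hcard]; rfl) hX (fun t ht1 ht2 => ?_) hF
  set Ct := Subgroup.centralizer ({t} : Set G)
  have ht : orderOf t = 2 := orderOf_eq_prime (by rw [sq, ht2]) ht1
  have hd : Nat.card Ct ∣ 16 * 255 := by
    rw [show 16 * 255 = 4080 from rfl, ← hcard]; exact Subgroup.card_subgroup_dvd_card Ct
  have hno : ∀ r : ℕ, ∀ [Fact r.Prime], r ∣ Nat.card Ct → ∀ S : Sylow r G, Nat.card (S : Subgroup G) = r →
      2 ∣ Nat.card (Subgroup.centralizer ((S : Subgroup G) : Set G)) := by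
    intro r _ hr S hS
    obtain ⟨u, hu⟩ := exists_prime_orderOf_dvd_card' (G := Ct) r hr
    obtain ⟨c, hmem⟩ := exists_conj_mem_sylow S
      (isPGroup_of_orderOf (n := 1) (g := (u : G)) (by rw [Subgroup.orderOf_coe, hu, pow_one]))
    have hne : c * (u : G) * c⁻¹ ≠ 1 := fun e => by
      rw [← Subgroup.orderOf_coe, conj_eq_one_iff.mp e, orderOf_one] at hu
      exact (Fact.out : r.Prime).ne_one hu.symm
    have htm : c * t * c⁻¹ ∈ Subgroup.centralizer ((S : Subgroup G) : Set G) := by
      rw [← centralizer_eq_of_prime hS hmem hne, Subgroup.mem_centralizer_singleton_iff]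
      have := Subgroup.mem_centralizer_singleton_iff.mp u.2
      calc c * t * c⁻¹ * (c * (u : G) * c⁻¹) = c * (t * u) * c⁻¹ := by group
        _ = c * ((u : G) * t) * c⁻¹ := by rw [this]
        _ = c * (u : G) * c⁻¹ * (c * t * c⁻¹) := by group
    have h := Subgroup.orderOf_dvd_natCard _ htm
    rwa [← (SemiconjBy.conj_mk c t).orderOf_eq c, ht] at h
  have h3 : ¬ 3 ∣ Nat.card Ct := fun h => by
    have := hno 3 h Q hQ; rw [hCQ] at this; norm_num at this
  have h5 : ¬ 5 ∣ Nat.card Ct := fun h => by
    have := hno 5 h P hP; rw [hCP] at this; norm_num at this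
  have h17 : ¬ 17 ∣ Nat.card Ct := fun h => by
    have := hno 17 h R hR; rw [hCR] at this; norm_num at this
  have hcop : Nat.Coprime (Nat.card Ct) 255 := by
    rw [show (255 : ℕ) = 3 * 5 * 17 from rfl]
    exact (((Fact.out : Nat.Prime 3).coprime_iff_not_dvd.mpr h3).symm.mul_right
      ((Fact.out : Nat.Prime 5).coprime_iff_not_dvd.mpr h5).symm).mul_right
      ((Fact.out : Nat.Prime 17).coprime_iff_not_dvd.mpr h17).symm
  exact hcop.dvd_of_dvd_mul_right hd

end Cfsg.Agent.Block.SmallPSL
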