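import Cfsg.Agent.Lib.Block.SmallPSL.Facts
import Cfsg.Agent.Lib.Block.SmallPSL.Recognize

/-!
# Simple groups of order 504
-/

set_option autoImplicit false

namespace Cfsg.Agent.Block.SmallPSL

universe u

variable {G : Type u} [Group G] [Finite G] [IsSimpleGroup G]

theorem index_gt_seven (hcard : Nat.card G = 504) (H : Subgroup G) (hH : H ≠ ⊤) : 7 < H.index := by
  have hna : ¬ IsMulCommutative G := small_not_comm (by rw [hcard]; norm_num)
  have h := small_two_card_dvd hna H hH
  rw [hcard] at h
  by_contra hle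
  push Not at hle
  obtain ⟨f, hf⟩ := Cfsg.Agent.S0991.result hna H hH
  have h0 : H.index ≠ 0 := Subgroup.index_ne_zero_of_finite
  by_cases h7 : H.index = 7
  · -- the image has index five in the alternating group of degree seven
    haveI : IsSimpleGroup (alternatingGroup (Fin H.index)) :=
      alternatingGroup.isSimpleGroup (by rw [Nat.card_fin, h7]; norm_num)
    haveI : Nontrivial (Fin H.index) := by rw [h7]; infer_instance
    have hA : Nat.card (alternatingGroup (Fin H.index)) = 2520 := by
      rw [nat_card_alternatingGroup, Nat.card_fin, h7]; rfl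
    have hnaA : ¬ IsMulCommutative (alternatingGroup (Fin H.index)) :=
      small_not_comm (by rw [hA]; norm_num)
    have hr : Nat.card f.range = 504 := by
      rw [← hcard]; exact (Nat.card_congr (MonoidHom.ofInjective hf).toEquiv).symm
    have hi : f.range.index = 5 := by
      have := f.range.card_mul_index
      rw [hA, hr] at this
      omega
    have h5 := small_two_card_dvd hnaA f.range (fun e => by rw [e, Subgroup.index_top] at hi; omega)
    rw [hA, hi] at h5
    norm_num [Nat.factorial] at h5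
  · have : H.index ≤ 6 := by omega
    interval_cases hi : H.index <;> norm_num [Nat.factorial] at h

/-- A subgroup of order 36 has no normal subgroup of order four. -/
theorem false_of_normal_four (hcard : Nat.card G = 504) {C : Subgroup G} (hc : Nat.card C = 9 * 4)
    (V : Subgroup C) [V.Normal] (hV : Nat.card V = 4) : False := by
  haveI : Fact (Nat.Prime 2) := ⟨Nat.prime_two⟩
  set VG := V.map C.subtype with hVG
  have hVGc : Nat.card VG = 4 := by
    rw [hVG, Subgroup.card_map_of_injective C.subtype_injective, hV]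
  have hCle : C ≤ Subgroup.normalizer (VG : Set G) := by
    intro x hx
    refine Subgroup.mem_normalizer_iff.mpr fun y => ⟨?_, ?_⟩
    · rintro ⟨v, hv, rfl⟩
      exact ⟨⟨x, hx⟩ * v * ⟨x, hx⟩⁻¹, (inferInstance : V.Normal).conj_mem v hv _, rfl⟩
    · rintro ⟨v, hv, he⟩
      refine ⟨⟨x, hx⟩⁻¹ * v * ⟨x, hx⟩, by
        simpa using (inferInstance : V.Normal).conj_mem v hv (⟨x, hx⟩⁻¹ : C), ?_⟩
      show x⁻¹ * (v : G) * x = y
      rw [show ((v : C) : G) = x * y * x⁻¹ from he]
      group
  obtain ⟨Q, hQ8, hVQ⟩ := Sylow.exists_subgroup_card_pow_succ (p := 2) (n := 2)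
    (by rw [hcard]; norm_num) (H := VG) (by rw [hVGc]; rfl)
  have hVn : (VG.subgroupOf Q).index = 2 := by
    have := (VG.subgroupOf Q).card_mul_index
    rw [Nat.card_congr (Subgroup.subgroupOfEquivOfLe hVQ).toEquiv, hVGc, hQ8] at this
    omega
  have hQle : Q ≤ Subgroup.normalizer (VG : Set G) := by
    haveI := Subgroup.normal_of_index_eq_two hVn
    intro x hx
    refine Subgroup.mem_normalizer_iff.mpr fun y => ⟨fun hy => ?_, fun hy => ?_⟩
    · exact (inferInstance : (VG.subgroupOf Q).Normal).conj_mem ⟨y, hVQ hy⟩ hy ⟨x, hx⟩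
    · have h := (inferInstance : (VG.subgroupOf Q).Normal).conj_mem ⟨_, hVQ hy⟩ hy (⟨x, hx⟩⁻¹ : Q)
      have hh : x⁻¹ * (x * y * x⁻¹) * x⁻¹⁻¹ ∈ VG := h
      simpa [mul_assoc] using hh
  have h36 : 36 ∣ Nat.card (Subgroup.normalizer (VG : Set G)) := by
    have := Subgroup.card_dvd_of_le hCle
    rwa [hc] at this
  have h8 : 8 ∣ Nat.card (Subgroup.normalizer (VG : Set G)) := by
    have := Subgroup.card_dvd_of_le hQle
    rwa [hQ8] at this
  have h72 : 72 ∣ Nat.card (Subgroup.normalizer (VG : Set G)) := by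
    have := Nat.lcm_dvd h36 h8
    norm_num [Nat.lcm] at this
    exact this
  have hne : Subgroup.normalizer (VG : Set G) ≠ ⊤ := by
    intro e
    rw [Subgroup.normalizer_eq_top_iff] at e
    rcases e.eq_bot_or_eq_top with h | h
    · rw [h, Subgroup.card_bot] at hVGc; omega
    · rw [h, Nat.card_congr Subgroup.topEquiv.toEquiv, hcard] at hVGc; omega
  have hidx := index_gt_seven hcard _ hne
  have hm := Subgroup.card_mul_index (Subgroup.normalizer (VG : Set G))
  rw [hcard] at hm
  obtain ⟨j, hj⟩ := h72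
  rw [hj] at hm
  have hj0 : 1 ≤ j := Nat.one_le_iff_ne_zero.mpr fun h => by rw [h] at hm; omega
  have hmul := Nat.mul_le_mul (Nat.mul_le_mul (le_refl 72) hj0) hidx
  omega

theorem seven_data (hcard : Nat.card G = 504) [Fact (Nat.Prime 7)] (P7 : Sylow 7 G) :
    Nat.card (P7 : Subgroup G) = 7 ∧
      (Subgroup.normalizer ((P7 : Subgroup G) : Set G)).index = 36 ∧
      Nat.card (Subgroup.centralizer ((P7 : Subgroup G) : Set G)) = 7 := by
  have hna : ¬ IsMulCommutative G := small_not_comm (by rw [hcard]; norm_num)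
  have hP7 : Nat.card (P7 : Subgroup G) = 7 := OrdP.card_sylow_eq (m := 72) (by rw [hcard]) (by norm_num) P7
  -- the seven part
  obtain ⟨k, hk0, hn7, hk, hN7, hN7c, -⟩ :=
    small_sylow_number hna P7 (a := 1) (m := 72) (by rw [hcard, pow_one]) one_ne_zero
  have hn7' : 7 * k + 1 = 36 := by
    have hkle : k ≤ 10 := by have := Nat.le_of_dvd (by norm_num) hk; omega
    interval_cases k <;> revert hk <;> norm_num
    have h := small_sylow_succ (by norm_num) hna P7 hn7
    rw [hcard] at hN7c
    have e : Nat.card (Subgroup.normalizer ((P7 : Subgroup G) : Set G)) = 63 := by omega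
    rw [e] at h
    norm_num at h
  rw [hn7', hcard] at hN7c
  obtain ⟨e, k', -, hk', herel, he1, hed, hpC, heq⟩ :=
    OrdP.exists_e hna (m := 72) (by rw [hcard]) (by norm_num) P7
  have hC7 : Nat.card (Subgroup.centralizer ((P7 : Subgroup G) : Set G)) = 7 := by
    have hN : Nat.card (Subgroup.normalizer ((P7 : Subgroup G) : Set G)) = 14 := by omega
    have hCN := Subgroup.centralizer_le_normalizer ((P7 : Subgroup G) : Set G)
    have hrel : Nat.card (Subgroup.centralizer ((P7 : Subgroup G) : Set G)) * e = 14 := by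
      rw [← hN, ← herel, Subgroup.relIndex]
      have hm := Subgroup.card_mul_index ((Subgroup.centralizer ((P7 : Subgroup G) : Set G)).subgroupOf
        (Subgroup.normalizer ((P7 : Subgroup G) : Set G)))
      rwa [Nat.card_congr (Subgroup.subgroupOfEquivOfLe hCN).toEquiv] at hm
    obtain ⟨c, hc⟩ := hpC
    rw [hc] at hrel ⊢
    have : c * e = 2 := by rw [mul_assoc] at hrel; omega
    rcases (Nat.dvd_prime Nat.prime_two).mp (Dvd.intro c (by rw [mul_comm]; exact this) : e ∣ 2) with h | h
    · omega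
    · rw [h] at this; omega
  exact ⟨hP7, hN7.trans hn7', hC7⟩

theorem three_data (hcard : Nat.card G = 504) [Fact (Nat.Prime 3)] (P3 : Sylow 3 G) :
    Nat.card (P3 : Subgroup G) = 9 ∧ IsMulCommutative P3 ∧
      (Subgroup.normalizer ((P3 : Subgroup G) : Set G)).index = 28 ∧
      Nat.card (Subgroup.normalizer ((P3 : Subgroup G) : Set G)) = 18 := by
  have hna : ¬ IsMulCommutative G := small_not_comm (by rw [hcard]; norm_num)
  have hP3 : Nat.card (P3 : Subgroup G) = 9 := by
    rw [P3.card_eq_multiplicity, hcard, show (504 : ℕ) = 3 ^ 2 * 56 by norm_num,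
      Nat.factorization_mul (by norm_num) (by norm_num), Finsupp.add_apply,
      Nat.prime_three.factorization_pow, Finsupp.single_eq_same,
      Nat.factorization_eq_zero_of_not_dvd (by norm_num)]
    norm_num
  have hP3c : IsMulCommutative P3 :=
    IsPGroup.isMulCommutative_of_card_eq_prime_sq (G := (P3 : Subgroup G)) (p := 3) (by rw [hP3]; norm_num)
  obtain ⟨l, hl0, -, hl, hN3, hN3c, -⟩ :=
    small_sylow_number hna P3 (a := 2) (m := 56) (by rw [hcard]; norm_num) two_ne_zero
  set N3 := Subgroup.normalizer ((P3 : Subgroup G) : Set G) with hN3def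
  have hn3 : 3 * l + 1 = 28 := by
    have hne : N3 ≠ ⊤ := fun e => by rw [e, Subgroup.index_top] at hN3; omega
    have h8 := index_gt_seven hcard N3 hne
    rw [hN3] at h8
    have hlle : l ≤ 19 := by have := Nat.le_of_dvd (by norm_num) hl; omega
    interval_cases l <;> revert hl h8 <;> norm_num
  rw [hn3, hcard] at hN3c
  have hN3' : Nat.card N3 = 18 := by omega
  exact ⟨hP3, hP3c, hN3.trans hn3, hN3'⟩

set_option maxHeartbeats 1000000 in
theorem centralizer_three (hcard : Nat.card G = 504) [Fact (Nat.Prime 3)] (P3 : Sylow 3 G) {s : G}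
    (hs : s ∈ (P3 : Subgroup G)) (hs1 : s ≠ 1) :
    Subgroup.centralizer ({s} : Set G) = (P3 : Subgroup G) := by
  classical
  haveI : Fact (Nat.Prime 2) := ⟨Nat.prime_two⟩
  haveI : Fact (Nat.Prime 7) := ⟨by norm_num⟩
  obtain ⟨P7⟩ : Nonempty (Sylow 7 G) := inferInstance
  obtain ⟨hP7, -, hC7⟩ := seven_data hcard P7
  obtain ⟨hP3, hP3c, -, hN3'⟩ := three_data hcard P3
  set N3 := Subgroup.normalizer ((P3 : Subgroup G) : Set G) with hN3def
  set C := Subgroup.centralizer ({s} : Set G) with hCdef
  have hPC : (P3 : Subgroup G) ≤ C := fun y hy => Subgroup.mem_centralizer_singleton_iff.mpr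
    (congrArg Subtype.val (hP3c.is_comm.comm (⟨y, hy⟩ : (P3 : Subgroup G)) ⟨s, hs⟩))
  refine (Subgroup.eq_of_le_of_card_ge hPC ?_).symm
  rw [hP3]
  have h9 : 9 ∣ Nat.card C := hP3 ▸ Subgroup.card_dvd_of_le hPC
  have h7 : ¬ 7 ∣ Nat.card C := by
    intro h
    obtain ⟨u, hu⟩ := exists_prime_orderOf_dvd_card' (G := C) 7 h
    obtain ⟨n, hn⟩ := IsPGroup.iff_orderOf.mp P3.isPGroup' ⟨s, hs⟩
    rw [Subgroup.orderOf_mk] at hn
    obtain ⟨n', rfl⟩ : ∃ n', n = n' + 1 := ⟨n - 1, by
      rcases Nat.eq_zero_or_pos n with rfl | h0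
      · exact absurd (orderOf_eq_one_iff.mp (by rw [hn, pow_zero])) hs1
      · omega⟩
    have hs3 : orderOf (s ^ (3 ^ n')) = 3 := by
      rw [orderOf_pow_of_dvd (by positivity) (hn ▸ pow_dvd_pow 3 (Nat.le_succ n')), hn, pow_succ',
        Nat.mul_div_cancel _ (by positivity)]
    have := eq_prime_of_commute (p := 7) Nat.prime_three P7 hP7 hC7 (u := (u : G))
      (by rw [Subgroup.orderOf_coe, hu]) hs3
      (Commute.pow_right (Subgroup.mem_centralizer_singleton_iff.mp u.2) _)
    omega
  have hdvd : Nat.card C ∣ 504 := hcard ▸ Subgroup.card_subgroup_dvd_card C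
  obtain ⟨c, hc⟩ := h9
  have hc8 : c ∈ ({1, 2, 4, 8} : Finset ℕ) := by
    rw [hc] at hdvd h7
    have hcd : c ∣ 56 := by
      rw [show (504 : ℕ) = 9 * 56 from rfl] at hdvd
      exact Nat.dvd_of_mul_dvd_mul_left (by norm_num) hdvd
    have hc56 : c ≤ 56 := Nat.le_of_dvd (by norm_num) hcd
    have h7c : ¬ 7 ∣ c := fun h => h7 (Dvd.dvd.mul_left h 9)
    interval_cases c <;> revert hcd h7c <;> norm_num
  simp only [Finset.mem_insert, Finset.mem_singleton] at hc8
  -- if the Sylow subgroup is normal in `C`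
  have hnormal : C ≤ N3 → Nat.card C = 9 := by
    intro hle
    have h18 := Subgroup.card_dvd_of_le hle
    rw [hN3', hc] at h18
    rcases hc8 with rfl | rfl | rfl | rfl
    · exact hc
    · exfalso
      have e : C = N3 := Subgroup.eq_of_le_of_card_ge hle (by rw [hN3', hc])
      refine hs1 (eq_one_of_central_normalizer P3 hP3c ?_ hs fun n hn => ?_)
      · exact exists_prime_ne_of_mul (q := 7) (by norm_num) (by rw [hcard]; norm_num) (by norm_num)
      · exact Subgroup.mem_centralizer_singleton_iff.mp (e.ge hn)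
    · norm_num at h18
    · norm_num at h18
  have hCtop : C ≠ ⊤ := fun e => by
    have h := hcard
    rw [← Nat.card_congr Subgroup.topEquiv.toEquiv, ← e, hc] at h
    omega
  let PC : Sylow 3 C := P3.subtype hPC
  have hPCc : Nat.card (PC : Subgroup C) = 9 :=
    (Nat.card_congr (Subgroup.subgroupOfEquivOfLe hPC).toEquiv).trans hP3
  by_cases hPn : (PC : Subgroup C).Normal
  · refine le_of_eq (hnormal fun x hx => ?_)
    refine Subgroup.mem_normalizer_iff.mpr fun y => ?_
    constructor
    · intro hy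
      exact hPn.conj_mem ⟨y, hPC hy⟩ hy ⟨x, hx⟩
    · intro hy
      have h := hPn.conj_mem ⟨x * y * x⁻¹, hPC hy⟩ hy (⟨x, hx⟩⁻¹ : C)
      have hh : x⁻¹ * (x * y * x⁻¹) * x⁻¹⁻¹ ∈ (P3 : Subgroup G) := h
      simpa [mul_assoc] using hh
  exfalso
  have hidx : (PC : Subgroup C).index = c := by
    have := (PC : Subgroup C).card_mul_index
    rw [hPCc, hc] at this
    omega
  rcases hc8 with rfl | rfl | rfl | rfl
  · exact hPn (by rw [Subgroup.index_eq_one.mp hidx]; infer_instance)
  · exact hPn (Subgroup.normal_of_index_eq_two hidx)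
  · -- order 36: a normal subgroup of order four
    have hNP : Subgroup.normalizer (PC : Set C) = (PC : Subgroup C) := by
      have hle : (PC : Subgroup C) ≤ Subgroup.normalizer (PC : Set C) := Subgroup.le_normalizer
      refine (Subgroup.eq_of_le_of_card_ge hle ?_).symm
      rw [hPCc]
      by_contra hgt
      push Not at hgt
      have h1 := Subgroup.card_dvd_of_le hle
      have h2 := Subgroup.card_subgroup_dvd_card (Subgroup.normalizer (PC : Set C))
      rw [hPCc] at h1
      rw [hc] at h2
      obtain ⟨j, hj⟩ := h1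
      rw [hj] at h2 hgt
      have hj4 : j ∣ 4 := Nat.dvd_of_mul_dvd_mul_left (by norm_num) h2
      have hj4' : j ≤ 4 := Nat.le_of_dvd (by norm_num) hj4
      interval_cases j <;> (try omega)
      · -- a normal Sylow subgroup of index two in the normalizer
        have hmod : Nat.card (Sylow 3 C) ≡ 1 [MOD 3] := card_sylow_modEq_one 3 C
        rw [Sylow.card_eq_index_normalizer PC] at hmod
        have := Subgroup.card_mul_index (Subgroup.normalizer (PC : Set C))
        rw [hj, hc] at this
        have hi : (Subgroup.normalizer (PC : Set C)).index = 2 := by omega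
        rw [hi] at hmod
        exact absurd hmod (by decide)
      · apply hPn
        rw [← Subgroup.normalizer_eq_top_iff]
        exact Subgroup.eq_top_of_card_eq _ (hj.trans hc.symm)
    have hcomm : Subgroup.normalizer (PC : Set C) ≤ Subgroup.centralizer (PC : Set C) := by
      rw [hNP]
      intro x hx
      exact Subgroup.mem_centralizer_iff.mpr fun y hy =>
        Subtype.ext (congrArg Subtype.val (hP3c.is_comm.comm (⟨y.1, hy⟩ : (P3 : Subgroup G)) ⟨x.1, hx⟩) :)
    have hcompl := MonoidHom.ker_transferSylow_isComplement' PC hcomm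
    set V := (MonoidHom.transferSylow PC hcomm).ker
    have hV : Nat.card V = 4 := by
      have := hcompl.card_mul
      rw [hPCc, hc] at this
      omega
    exact false_of_normal_four hcard hc V hV
  · have hidxC := index_gt_seven hcard C hCtop
    have hm := Subgroup.card_mul_index C
    rw [hcard, hc] at hm
    omega

set_option maxHeartbeats 1000000 in
theorem iso_psl_504 (hcard : Nat.card G = 504) {F : Type*} [Field F] [Fintype F]
    (hF : Fintype.card F = 8) : Nonempty (G ≃* Matrix.ProjectiveSpecialLinearGroup (Fin 2) F) := by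
  classical
  haveI : Fact (Nat.Prime 2) := ⟨Nat.prime_two⟩
  haveI : Fact (Nat.Prime 3) := ⟨Nat.prime_three⟩
  haveI : Fact (Nat.Prime 7) := ⟨by norm_num⟩
  haveI := Fintype.ofFinite G
  obtain ⟨P7⟩ : Nonempty (Sylow 7 G) := inferInstance
  obtain ⟨P3⟩ : Nonempty (Sylow 3 G) := inferInstance
  obtain ⟨hP7, hN7, hC7⟩ := seven_data hcard P7
  obtain ⟨hP3, hP3c, hN3, -⟩ := three_data hcard P3
  have hcent3 := fun s hs hs1 => centralizer_three hcard P3 (s := s) hs hs1
  -- counting
  have hc7 : ∀ a ∈ (P7 : Subgroup G), a ≠ 1 →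
      Subgroup.centralizer ({a} : Set G) = (P7 : Subgroup G) := by
    intro a ha ha1
    rw [centralizer_eq_of_prime hP7 ha ha1]
    haveI := isCyclic_of_prime_card hP7
    refine (Subgroup.eq_of_le_of_card_ge (fun x hx => Subgroup.mem_centralizer_iff.mpr fun y hy => ?_)
      (by rw [hC7, hP7])).symm
    exact congrArg Subtype.val (mul_comm' (⟨y, hy⟩ : (P7 : Subgroup G)) ⟨x, hx⟩)
  have hU7 := card_conj_union (P7 : Subgroup G) hc7
  rw [hN7, hP7] at hU7
  have hU3 := card_conj_union (P3 : Subgroup G) hcent3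
  rw [hN3, hP3] at hU3
  have hX : Nat.card {g : G // g ^ 8 = 1} ≤ 64 := by
    simp only [Nat.card_eq_fintype_card, Fintype.card_subtype] at hU7 hU3 ⊢
    set S8 := Finset.univ.filter (fun g : G => g ^ 8 = 1)
    set S7 := Finset.univ.filter (fun g : G => g ≠ 1 ∧ ∃ c : G, c * g * c⁻¹ ∈ (P7 : Subgroup G))
    set S3 := Finset.univ.filter (fun g : G => g ≠ 1 ∧ ∃ c : G, c * g * c⁻¹ ∈ (P3 : Subgroup G))
    have hord : ∀ {p : ℕ} (P : Sylow p G) (g c : G), c * g * c⁻¹ ∈ (P : Subgroup G) →
        orderOf g ∣ Nat.card (P : Subgroup G) := by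
      intro p P g c hm
      rw [(SemiconjBy.conj_mk c g).orderOf_eq c]
      exact Subgroup.orderOf_dvd_natCard _ hm
    have h37 : Disjoint S3 S7 := by
      rw [Finset.disjoint_left]
      intro g hg hg'
      simp only [S3, S7, Finset.mem_filter, Finset.mem_univ, true_and] at hg hg'
      obtain ⟨hg1, c, hc⟩ := hg
      obtain ⟨-, d, hd⟩ := hg'
      have a := hord P3 g c hc
      have b := hord P7 g d hd
      rw [hP3] at a
      rw [hP7] at b
      exact hg1 (orderOf_eq_one_iff.mp (Nat.dvd_one.mp (by simpa using Nat.dvd_gcd a b)))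
    have h8 : Disjoint (S3 ∪ S7) S8 := by
      rw [Finset.disjoint_left]
      intro g hg hg8
      simp only [S8, Finset.mem_filter, Finset.mem_univ, true_and] at hg8
      have c8 : orderOf g ∣ 8 := orderOf_dvd_of_pow_eq_one hg8
      rcases Finset.mem_union.mp hg with hg | hg <;>
        simp only [S3, S7, Finset.mem_filter, Finset.mem_univ, true_and] at hg <;>
        obtain ⟨hg1, c, hc⟩ := hg
      · have a := hord P3 g c hc
        rw [hP3] at a
        exact hg1 (orderOf_eq_one_iff.mp (Nat.dvd_one.mp (by simpa using Nat.dvd_gcd a c8)))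
      · have a := hord P7 g c hc
        rw [hP7] at a
        exact hg1 (orderOf_eq_one_iff.mp (Nat.dvd_one.mp (by simpa using Nat.dvd_gcd a c8)))
    have h := Finset.card_le_univ (S3 ∪ S7 ∪ S8)
    rw [Finset.card_union_of_disjoint h8, Finset.card_union_of_disjoint h37, ← Nat.card_eq_fintype_card,
      hcard] at h
    omega
  -- involution centralizers
  refine iso_psl_of_involution_centralizer (f := 3) (by norm_num) (by rw [hcard]; rfl) hX (fun t ht1 ht2 => ?_) hF
  set Ct := Subgroup.centralizer ({t} : Set G)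
  have ht : orderOf t = 2 := orderOf_eq_prime (by rw [sq, ht2]) ht1
  have hd : Nat.card Ct ∣ 8 * 63 := by
    rw [show 8 * 63 = 504 from rfl, ← hcard]; exact Subgroup.card_subgroup_dvd_card Ct
  have hno : ∀ r, r = 3 ∨ r = 7 → ¬ r ∣ Nat.card Ct := by
    rintro r (rfl | rfl) h
    · obtain ⟨u, hu⟩ := exists_prime_orderOf_dvd_card' (G := Ct) 3 h
      obtain ⟨c, hmem⟩ := exists_conj_mem_sylow P3
        (isPGroup_of_orderOf (n := 1) (g := (u : G)) (by rw [Subgroup.orderOf_coe, hu, pow_one]))
      have hne : c * (u : G) * c⁻¹ ≠ 1 := fun e => by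
        rw [← Subgroup.orderOf_coe, conj_eq_one_iff.mp e, orderOf_one] at hu
        omega
      have htm : c * t * c⁻¹ ∈ (P3 : Subgroup G) := by
        rw [← hcent3 _ hmem hne, Subgroup.mem_centralizer_singleton_iff]
        have := Subgroup.mem_centralizer_singleton_iff.mp u.2
        calc c * t * c⁻¹ * (c * (u : G) * c⁻¹) = c * (t * u) * c⁻¹ := by group
          _ = c * ((u : G) * t) * c⁻¹ := by rw [this]
          _ = c * (u : G) * c⁻¹ * (c * t * c⁻¹) := by group
      have := Subgroup.orderOf_dvd_natCard _ htm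
      rw [hP3, ← (SemiconjBy.conj_mk c t).orderOf_eq c, ht] at this
      norm_num at this
    · obtain ⟨u, hu⟩ := exists_prime_orderOf_dvd_card' (G := Ct) 7 h
      have := eq_prime_of_commute (p := 7) Nat.prime_two P7 hP7 hC7 (u := (u : G))
        (by rw [Subgroup.orderOf_coe, hu]) ht (Subgroup.mem_centralizer_singleton_iff.mp u.2)
      omega
  have hcop : Nat.Coprime (Nat.card Ct) 63 := by
    rw [show (63 : ℕ) = 3 * 3 * 7 from rfl]
    have h3 : Nat.Coprime (Nat.card Ct) 3 := (Nat.prime_three.coprime_iff_not_dvd.mpr (hno 3 (Or.inl rfl))).symm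
    have h7 : Nat.Coprime (Nat.card Ct) 7 := ((Fact.out : Nat.Prime 7).coprime_iff_not_dvd.mpr (hno 7 (Or.inr rfl))).symm
    exact (h3.mul_right h3).mul_right h7
  exact hcop.dvd_of_dvd_mul_right hd

end Cfsg.Agent.Block.SmallPSL
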